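import Groth.Agent.H12Pic.Bdd.Points
import Groth.Agent.H16Derived.BaseChange.RelFlatPull
import Groth.Agent.H17.KoszTwist.Stalk
import Groth.Agent.H10Coh.FinType

/-!
# Base change of sequences with flat cokernel; kernels of maps of families
-/

set_option autoImplicit false
set_option linter.style.haveILetI false
set_option linter.unusedSectionVars false
set_option backward.isDefEq.respectTransparency false
universe u

open CategoryTheory CategoryTheory.Limits AlgebraicGeometry TensorProduct

noncomputable section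

attribute [local instance] Groth.Agent.H06Mod.stalkAlgebra

namespace Groth.Agent.H12Pic.Bdd

open Groth.Agent.H16Derived.KFlat Groth.Agent.H16Derived.KFlat.Stalk Groth.Agent.H06Mod

theorem mono_pullback_fst_map {Y' X Y : Scheme.{u}} (f : X ⟶ Y) (g : Y' ⟶ Y) (S : ShortComplex X.Modules)
    (hS : S.ShortExact) (hfl : ∀ x', FlatMod.IsFlatOverAt f S.X₃ (pullback.fst f g x')) :
    Mono ((Scheme.Modules.pullback (pullback.fst f g)).map S.f) := by
  refine H17.KoszTwist.mono_of_stalk_injective _ fun x' => ?_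
  let g' := pullback.fst f g
  let f' := pullback.snd f g
  let x := g'.base x'
  let y' := f'.base x'
  have hy : g.base y' = f.base x := by
    show g.base (f'.base x') = f.base (g'.base x')
    rw [← Scheme.Hom.comp_apply, ← Scheme.Hom.comp_apply, pullback.condition]
  let β : Y.presheaf.stalk (f.base x) ⟶ Y'.presheaf.stalk y' :=
    Y.presheaf.stalkSpecializes (specializes_of_eq hy) ≫ g.stalkMap y'
  letI : Algebra (Y.presheaf.stalk (f.base x)) (Y'.presheaf.stalk y') := β.hom.toAlgebra
  letI : Algebra (Y.presheaf.stalk (f.base x)) (X.presheaf.stalk x) := H06Mod.stalkAlgebra f x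
  letI : Algebra (X.presheaf.stalk x) ((pullback f g).presheaf.stalk x') := H06Mod.stalkAlgebra g' x'
  letI : Algebra (Y'.presheaf.stalk y') ((pullback f g).presheaf.stalk x') := H06Mod.stalkAlgebra f' x'
  letI : Algebra (Y.presheaf.stalk (f.base x)) ((pullback f g).presheaf.stalk x') :=
    (f.stalkMap x ≫ g'.stalkMap x').hom.toAlgebra
  haveI : IsScalarTower (Y.presheaf.stalk (f.base x)) (X.presheaf.stalk x)
      ((pullback f g).presheaf.stalk x') := .of_algebraMap_eq fun _ => rfl
  have hb' : Spec.map β ≫ Y.fromSpecStalk (f.base x) = Y'.fromSpecStalk y' ≫ g := by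
    rw [Spec.map_comp, Category.assoc, Scheme.SpecMap_stalkSpecializes_fromSpecStalk,
      Scheme.SpecMap_stalkMap_fromSpecStalk]
  have ha : Spec.map (f.stalkMap x) ≫ Y.fromSpecStalk (f.base x) = X.fromSpecStalk x ≫ f :=
    Scheme.SpecMap_stalkMap_fromSpecStalk f
  clear_value β
  have hcomm : β ≫ f'.stalkMap x' = f.stalkMap x ≫ g'.stalkMap x' := by
    apply Spec.map_injective
    rw [← cancel_mono (Y.fromSpecStalk (f.base x)), Spec.map_comp, Spec.map_comp, Category.assoc,
      Category.assoc, hb', ha, ← Category.assoc, ← Category.assoc,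
      Scheme.SpecMap_stalkMap_fromSpecStalk, Scheme.SpecMap_stalkMap_fromSpecStalk, Category.assoc,
      Category.assoc, pullback.condition]
  haveI : IsScalarTower (Y.presheaf.stalk (f.base x)) (Y'.presheaf.stalk y')
      ((pullback f g).presheaf.stalk x') :=
    .of_algebraMap_eq fun r => congr($(congrArg CommRingCat.Hom.hom hcomm) r).symm
  have hC := H06Mod.flat_tensorLift (Y.presheaf.stalk (f.base x)) (X.presheaf.stalk x)
    (Y'.presheaf.stalk y') ((pullback f g).presheaf.stalk x') f g (X.fromSpecStalk x)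
    (Y.fromSpecStalk (f.base x)) (Y'.fromSpecStalk y') ha hb' ((pullback f g).fromSpecStalk x')
    (Scheme.SpecMap_stalkMap_fromSpecStalk _) (Scheme.SpecMap_stalkMap_fromSpecStalk _)
  letI := fun M : X.Modules => FlatMod.moduleStalkOver f M x
  haveI : ∀ M : X.Modules, IsScalarTower (Y.presheaf.stalk (f.base x)) (X.presheaf.stalk x)
      (M.presheaf.stalk x) := fun M => .of_algebraMap_smul fun _ _ => rfl
  haveI : Module.Flat (Y.presheaf.stalk (f.base x)) (S.X₃.presheaf.stalk x) := hfl x'
  have key := H16Derived.BaseChange.lTensor_injective_of_flat_coker _ _ _ _ hC (stalkLin S.f x) (stalkLin S.g x)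
    (H06Mod.stalk_injective S hS x) (H06Mod.stalk_exact S hS x) (H06Mod.stalk_surjective S hS x)
  intro a b hab
  obtain ⟨a, rfl⟩ := (H06Mod.pullStalkLin_bijective g' S.X₁ x').2 a
  obtain ⟨b, rfl⟩ := (H06Mod.pullStalkLin_bijective g' S.X₁ x').2 b
  have hab' : pullStalkLin g' S.X₂ x' ((stalkLin S.f x).lTensor _ a) =
      pullStalkLin g' S.X₂ x' ((stalkLin S.f x).lTensor _ b) := by
    rw [pullStalkLin_naturality, pullStalkLin_naturality]
    exact hab
  rw [key ((H06Mod.pullStalkLin_bijective g' S.X₂ x').1 hab')]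

/-- The pullback of a sequence whose cokernel is flat along the image is exact on the left. -/
theorem mono_pullback_map {X X' Y Y' : Scheme.{u}} {g' : X' ⟶ X} {f' : X' ⟶ Y'} {f : X ⟶ Y} {g : Y' ⟶ Y}
    (h : IsPullback g' f' f g) (S : ShortComplex X.Modules)
    (hS : S.ShortExact) (hfl : ∀ x', FlatMod.IsFlatOverAt f S.X₃ (g' x')) :
    Mono ((Scheme.Modules.pullback g').map S.f) := by
  let σ := h.isoPullback
  haveI := preservesFiniteLimits_pullback_of_flat σ.hom
  haveI := mono_pullback_fst_map f g S hS fun z => by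
    obtain ⟨z, rfl⟩ := σ.hom.surjective z
    rw [← Scheme.Hom.comp_apply, h.isoPullback_hom_fst]
    exact hfl z
  exact ((MorphismProperty.monomorphisms _).arrow_mk_iso_iff
    (Arrow.isoMk ((Scheme.Modules.pullbackComp σ.hom (pullback.fst f g) ≪≫
      Scheme.Modules.pullbackCongr h.isoPullback_hom_fst).app S.X₁)
      ((Scheme.Modules.pullbackComp σ.hom (pullback.fst f g) ≪≫
      Scheme.Modules.pullbackCongr h.isoPullback_hom_fst).app S.X₂)
      ((Scheme.Modules.pullbackComp σ.hom (pullback.fst f g) ≪≫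
      Scheme.Modules.pullbackCongr h.isoPullback_hom_fst).hom.naturality S.f).symm)).1
    (inferInstanceAs (Mono ((Scheme.Modules.pullback σ.hom).map _)))

variable {k : Type u} [Field k] {X : Scheme.{u}} [X.Over (Spec (CommRingCat.of k))]
  [IsProper (X ↘ Spec (CommRingCat.of k))]

variable {R : Type u} [CommRing R] [Algebra k R]

/-- Kernels commute with fibres when the image and cokernel are flat along the fibre. -/
theorem nonempty_fib_kernel {A B : (PR k X R).Modules} (π : A ⟶ B) (t : R →ₐ[k] k)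
    (hI : ∀ x, FlatMod.IsFlatOverAt (toR k X R) (cokernel (kernel.ι π)) (slice X t x))
    (hC : ∀ x, FlatMod.IsFlatOverAt (toR k X R) (cokernel (Abelian.factorThruCoimage π)) (slice X t x)) :
    Nonempty ((fib X t).obj (kernel π) ≅ kernel ((fib X t).map π)) := by
  let F := fib X t
  haveI : PreservesFiniteColimits F :=
    @PreservesColimitsOfSize.preservesFiniteColimits.{0, 0} _ _ _ _ _
      (Scheme.Modules.pullbackPushforwardAdjunction _).leftAdjoint_preservesColimits
  let S₁ : ShortComplex (PR k X R).Modules :=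
    ShortComplex.mk (kernel.ι π) (cokernel.π _) (cokernel.condition _)
  have hS₁ : S₁.ShortExact :=
    ShortComplex.ShortExact.mk' (ShortComplex.exact_cokernel _) inferInstance inferInstance
  let m : cokernel (kernel.ι π) ⟶ B := Abelian.factorThruCoimage π
  let S₂ : ShortComplex (PR k X R).Modules := ShortComplex.mk m (cokernel.π m) (cokernel.condition _)
  have hS₂ : S₂.ShortExact :=
    ShortComplex.ShortExact.mk' (ShortComplex.exact_cokernel _) inferInstance inferInstance
  haveI : Mono (F.map S₁.f) := mono_pullback_map (isPullback_slice X t) S₁ hS₁ hI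
  haveI : Mono (F.map m) := mono_pullback_map (isPullback_slice X t) S₂ hS₂ hC
  haveI : Mono (S₁.map F).f := inferInstanceAs (Mono (F.map S₁.f))
  have hex : (S₁.map F).Exact := (S₁.map F).exact_of_g_is_cokernel
    (CokernelCofork.mapIsColimit _ hS₁.gIsCokernel F)
  have hπ : π = cokernel.π (kernel.ι π) ≫ m := (Abelian.coimage.fac π).symm
  have hcomp : F.map (kernel.ι π) ≫ F.map π = 0 := by
    rw [← F.map_comp, kernel.condition, F.map_zero]
  have hlim : IsLimit (KernelFork.ofι (F.map (kernel.ι π)) hcomp) := by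
    have h1 := hex.fIsKernel
    refine KernelFork.IsLimit.ofι' _ _ fun {T} g hg => ⟨(KernelFork.IsLimit.lift' h1 g ?_).1,
      (KernelFork.IsLimit.lift' h1 g ?_).2⟩ <;>
    · rw [← cancel_mono (F.map m), zero_comp]
      refine Eq.trans ?_ hg
      rw [Category.assoc]
      exact congrArg (g ≫ ·) ((F.map_comp _ _).symm.trans (congrArg F.map hπ.symm))
  exact ⟨hlim.conePointUniqueUpToIso (limit.isLimit _)⟩

/-- The kernels of the fibres of a map of coherent families form a bounded set. -/
theorem bdd_kernel [Algebra.FiniteType k R] {A B : (PR k X R).Modules} (π : A ⟶ B) (hA : Coh.IsCoh A)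
    (hB : Coh.IsCoh B) :
    Bdd k X fun L => ∃ t : R →ₐ[k] k, Nonempty (kernel ((fib X t).map π) ≅ L) := by
  refine bdd_induction _ fun p hp => ?_
  let φ := Ideal.Quotient.mkₐ k p
  let P := Scheme.Modules.pullback (mapP X φ)
  have hA' := H17.ConsProp.isCoh_pullback (mapP X φ) hA
  have hB' := H17.ConsProp.isCoh_pullback (mapP X φ) hB
  have hK := H10Coh.isCoh_kernel (P.map π) hA' hB'.1
  have hI := H10Coh.isCoh_cokernel (kernel.ι (P.map π)) hK.1 hA'
  have hC := H10Coh.isCoh_cokernel (Abelian.factorThruCoimage (P.map π)) hI.1 hB'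
  obtain ⟨f₁, hf₁, hfl₁⟩ := exists_flat_locus X _ hI
  obtain ⟨f₂, hf₂, hfl₂⟩ := exists_flat_locus X _ hC
  obtain ⟨f, hf⟩ := Ideal.Quotient.mk_surjective (f₁ * f₂)
  refine ⟨f, fun h => mul_ne_zero hf₁ hf₂ (hf ▸ (Ideal.Quotient.eq_zero_iff_mem.2 h)), ?_⟩
  refine (bdd_fibres hK).mono fun L ⟨t, htp, htf, ⟨e⟩⟩ => ?_
  obtain ⟨t, rfl⟩ := exists_quot_point p t htp
  have hne : t (f₁ * f₂) ≠ 0 := hf ▸ htf
  rw [map_mul, mul_ne_zero_iff] at hne
  obtain ⟨eK⟩ := nonempty_fib_kernel (P.map π) t (flat_at_slice hfl₁ t hne.1) (flat_at_slice hfl₂ t hne.2)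
  exact ⟨_, ⟨t, ⟨Iso.refl _⟩⟩, ⟨eK ≪≫ kernel.mapIso _ _ ((fibMapP X φ t).app A) ((fibMapP X φ t).app B)
    ((fibMapP X φ t).hom.naturality π) ≪≫ e⟩⟩

end Groth.Agent.H12Pic.Bdd
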