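import Groth.Agent.H12Pic.NumTriv.Euler

/-!
# Uniform presentations of numerically trivial modules on projective schemes; Chow covers of proper schemes
-/

set_option autoImplicit false
set_option linter.style.haveILetI false
set_option linter.unusedSectionVars false
universe u

open CategoryTheory CategoryTheory.Limits AlgebraicGeometry Opposite TopologicalSpace

noncomputable section

namespace Groth.Agent.H12Pic.Bdd

open Groth.Agent.H12Pic.NumTriv

variable (k : Type u) [Field k]

open H22Alg H22Alg.MumfordBdd H22Alg.CMField in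
/-- On a projective scheme all numerically trivial modules are cokernels of maps between two fixed modules. -/
theorem exists_presentation_nt [IsAlgClosed k] (X : Scheme.{u}) [X.Over (Spec (CommRingCat.of k))]
    [IsProper (X ↘ Spec (CommRingCat.of k))] {A₀ : X.Modules} (hA₀ : CohB1.IsAmple A₀) :
    ∃ A B : X.Modules, Coh.IsCoh A ∧ Coh.IsCoh B ∧ ∀ L, NT k L → ∃ v : B ⟶ A, Nonempty (cokernel v ≅ L) := by
  obtain ⟨n, i, hi, hι⟩ := H22Alg.CurveProj.exists_closedImmersion k X hA₀
  haveI := hi
  haveI := CMHyper.noetherian k n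
  haveI := MumfordBound.proper_toSpec (k := k) (n := n)
  haveI : IsLocallyNoetherian X := LocallyOfFiniteType.isLocallyNoetherian i
  haveI := H28Int.isNoetherian k (X := X)
  have hs := setup k n
  obtain ⟨r, hr⟩ := exists_dim k (X := X)
  have hO : Coh.IsCoh (Coh.structureModule X) := H11Ample.isCoh_of_isInvertible H11Ample.isInvertible_structureModule
  obtain ⟨m, hm⟩ := (good_of_dim k i hι hr hO).reg
  obtain ⟨a, b, hab⟩ := exists_presentation (k := k) (n := n) (m : ℤ) fun d => Curv2.euler k X (TwistOn.O i d)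
  refine ⟨(Scheme.Modules.pullback i).obj (∐ fun _ : Fin a => Twist.twistProjSpace n k (-(m : ℤ))),
    (Scheme.Modules.pullback i).obj (∐ fun _ : Fin b => Twist.twistProjSpace n k (-((m : ℤ) + 1))),
    H17.ConsProp.isCoh_pullback i (H10Coh.isCoh_sigma _ fun _ => H11Ample.isCoh_of_isInvertible (hs.fam.inv _)),
    H17.ConsProp.isCoh_pullback i (H10Coh.isCoh_sigma _ fun _ => H11Ample.isCoh_of_isInvertible (hs.fam.inv _)),
    fun L hL => ?_⟩
  have hc := H11Ample.isCoh_of_isInvertible hL.inv
  have hreg : Pic13.IsMRegular k i L (m : ℤ) := fun q hq => by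
    haveI := hm L hL q hq
    refine subsingleton_of_hd_zero k (H11Ample.isCoh_tensor hc ((TwistOn.fam i).inv _)) ?_
    refine Eq.trans ?_ (Module.finrank_zero_of_subsingleton (R := k)
      (M := Coh.HH X (Pic13.twistOn k i (CohB1.tensorMod (Coh.structureModule X) L) ((m : ℤ) - q)) q))
    exact H25Index.hd_congr (PicGrp.tensorModIso (H10Coh.Tw.leftUnitIso L).symm (Iso.refl _)) q
  have hφ : ∀ d, Curv2.euler k X (Pic13.twistOn k i L d) = Curv2.euler k X (TwistOn.O i d) := fun d => by
    have h := (good_of_dim k i hι hr (H11Ample.isCoh_of_isInvertible ((TwistOn.fam i).inv d))).chi L hL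
    exact (H25Euler.euler_congr (H10Coh.Tw.commIso L (TwistOn.O i d))).trans h
  have hE : Coh.IsCoh ((Coh.push i).obj L) := H10Coh.isCoh_push_of_isFinite i _ hc
  obtain ⟨v, ⟨e⟩⟩ := hab _ hE (fun q hq => (van_push_iff i hc q _).2 (hreg q hq)) fun d => by
    have hi := hs.fam.inv d
    obtain ⟨e⟩ := H10Coh.Tw.nonempty_push_tensor_iso i L hi
    haveI : (CohB1.tensorMod L ((Scheme.Modules.pullback i).obj (Twist.twistProjSpace n k d))).IsQuasicoherent :=
      (H11Ample.isCoh_tensor hc (H11Ample.isInvertible_pullback i hi)).1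
    rw [H25Euler.euler_congr e, H28Int.Push.euler_push k i hι]
    exact hφ d
  haveI : (Scheme.Modules.pullback i).IsLeftAdjoint :=
    (Scheme.Modules.pullbackPushforwardAdjunction i).isLeftAdjoint
  haveI : (Scheme.Modules.pullback i).Additive :=
    (Scheme.Modules.pullbackPushforwardAdjunction i).left_adjoint_additive
  exact ⟨(Scheme.Modules.pullback i).map v, ⟨(PreservesCokernel.iso (Scheme.Modules.pullback i) v).symm ≪≫
    (Scheme.Modules.pullback i).mapIso e ≪≫
    @asIso _ _ _ _ _ (H24Hilb.Closed.isIso_counit_of_isClosedImmersion i L)⟩⟩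

/-- A proper scheme receives a birational map from a scheme with an ample module. -/
theorem exists_chow_ample {Z : Scheme.{u}} (qZ : Z ⟶ Spec (CommRingCat.of k)) [IsProper qZ] :
    ∃ (W : Scheme.{u}) (π : W ⟶ Z) (A : W.Modules) (U : Z.Opens), IsProper π ∧
      CohB1.IsAmple A ∧ Dense (U : Set Z) ∧ IsIso (π ∣_ U) := by
  haveI : IsNoetherian Z := LeadChow.isNoetherian_source qZ
  obtain ⟨N, W, π, j, hj, hjS, hπ, -, -, hs, ⟨U, hU, hiso⟩, -, -⟩ :=
    LeadChow.exists_chow_dense qZ NoetherianSpace.finite_irreducibleComponents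
  haveI := hj; haveI := hπ; haveI := hs
  haveI : IsProper (CohB1.ProjSpaceOver.toBase N (Spec (CommRingCat.of k))) :=
    H27Weil.isProper_toBase N (Spec (CommRingCat.of k))
  haveI : IsProper j := by
    haveI : IsProper (π ≫ qZ) := MorphismProperty.comp_mem _ _ _ inferInstance inferInstance
    haveI : IsProper (j ≫ CohB1.ProjSpaceOver.toBase N (Spec (CommRingCat.of k))) := hjS ▸ inferInstance
    exact IsProper.of_comp j (CohB1.ProjSpaceOver.toBase N (Spec (CommRingCat.of k)))
  haveI : IsClosedImmersion j := IsClosedImmersion.of_isPreimmersion j (j.isClosedMap.isClosed_range)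
  obtain ⟨M, hM⟩ := H8Props.Ample.exists_isAmple_projSpaceOver N
    (H17.LocalProj.exists_isAmple_of_isAffine (Spec (CommRingCat.of k)))
  exact ⟨W, π, _, U, hπ, H11Ample.isAmple_pullback_of_isAffineHom j hM, hU, hiso⟩

end Groth.Agent.H12Pic.Bdd
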