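import Groth.Agent.H12Pic.Bdd.Exact
import Groth.Agent.H22Alg.BoundedCoker

/-!
# Kernels of linear combinations of finitely many maps of families
-/

set_option autoImplicit false
set_option linter.style.haveILetI false
set_option linter.unusedSectionVars false
universe u

open CategoryTheory CategoryTheory.Limits AlgebraicGeometry

noncomputable section

namespace Groth.Agent.H12Pic.Bdd

variable {k : Type u} [Field k] {X : Scheme.{u}} [X.Over (Spec (CommRingCat.of k))]
  [IsProper (X ↘ Spec (CommRingCat.of k))]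

/-- The kernels of the linear combinations of the fibres of finitely many maps form a bounded set. -/
theorem bdd_kernel_comb {R : Type u} [CommRing R] [Algebra k R] [Algebra.FiniteType k R]
    {A B : (PR k X R).Modules} (hA : Coh.IsCoh A) (hB : Coh.IsCoh B) {n : ℕ} (v : Fin n → (A ⟶ B)) :
    Bdd k X fun L => ∃ (t : R →ₐ[k] k) (c : Fin n → k),
      Nonempty (kernel (∑ j, Formal.smulMod k _ (c j) ≫ (fib X t).map (v j)) ≅ L) := by
  let R' := MvPolynomial (Fin n) R
  let φ : R →ₐ[k] R' := IsScalarTower.toAlgHom k R R'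
  haveI : Algebra.FiniteType k R' := Algebra.FiniteType.trans (inferInstance : Algebra.FiniteType k R) inferInstance
  let P := Scheme.Modules.pullback (mapP X φ)
  let U : P.obj A ⟶ P.obj B := ∑ j, Formal.smulMod R' _ (MvPolynomial.X j) ≫ P.map (v j)
  refine (bdd_kernel U (H17.ConsProp.isCoh_pullback _ hA) (H17.ConsProp.isCoh_pullback _ hB)).mono
    fun L ⟨t, c, ⟨e⟩⟩ => ?_
  let ev : R' →ₐ[k] k :=
    { MvPolynomial.eval₂Hom t.toRingHom c with
      commutes' := fun a => by
        show MvPolynomial.eval₂ t.toRingHom c (algebraMap k R' a) = a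
        rw [IsScalarTower.algebraMap_apply k R R', MvPolynomial.algebraMap_eq, MvPolynomial.eval₂_C]
        exact t.commutes a }
  have hev : ev.comp φ = t := AlgHom.ext fun a => MvPolynomial.eval₂_C t.toRingHom c a
  have hX : ∀ j, ev.toRingHom (MvPolynomial.X j) = c j := fun j => MvPolynomial.eval₂_X t.toRingHom c j
  clear_value ev
  subst hev
  letI : X.Over (Spec (CommRingCat.of R')) := ⟨(X ↘ Spec (CommRingCat.of k)) ≫ sp ev⟩
  have hs : slice X ev ≫ (PR k X R' ↘ Spec (CommRingCat.of R')) = X ↘ Spec (CommRingCat.of R') :=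
    slice_toR X ev
  have hsm : ∀ (M : X.Modules) (a : R'), Formal.smulMod R' M a = Formal.smulMod k M (ev.toRingHom a) :=
    fun M a => congrArg (Formal.smulModΓ M)
      (H22Alg.BoundedCoker.toGlobal_comp_map (X ↘ Spec (CommRingCat.of k)) ev.toRingHom a)
  let θ := fibMapP X φ ev
  have hU : (fib X ev).map U ≫ (θ.app B).hom =
      (θ.app A).hom ≫ ∑ j, Formal.smulMod k _ (c j) ≫ (fib X (ev.comp φ)).map (v j) := by
    rw [Functor.map_sum, Preadditive.sum_comp, Preadditive.comp_sum]
    refine Finset.sum_congr rfl fun j _ => ?_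
    have h1 : (fib X ev).map (P.map (v j)) ≫ (θ.app B).hom = (θ.app A).hom ≫ (fib X (ev.comp φ)).map (v j) :=
      θ.hom.naturality (v j)
    rw [Functor.map_comp, H24Formal.pullback_map_smulMod (slice X ev) hs, Category.assoc, h1, hsm, hX,
      ← Category.assoc, H24Formal.smulMod_comm, Category.assoc]
  exact ⟨_, ⟨ev, ⟨Iso.refl _⟩⟩, ⟨kernel.mapIso _ _ (θ.app A) (θ.app B) hU ≪≫ e⟩⟩

end Groth.Agent.H12Pic.Bdd
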