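import Groth.Agent.H7Flat.GenericFreeness
import Groth.Agent.H16Derived.BaseChange.RelFlatPull
import Mathlib.RingTheory.TensorProduct.IsBaseChangeHom
import Mathlib.RingTheory.TensorProduct.IsBaseChangePi

/-!
# Linear maps commute with base change above a dense open of the base
-/

set_option autoImplicit false
set_option linter.style.haveILetI false
set_option linter.unusedSectionVars false
universe u

open TensorProduct

noncomputable section

namespace Groth.Agent.H12Pic.Bdd

/-- An injection with cokernel flat after inverting `f` stays injective over algebras where `f` is invertible. -/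
theorem injective_lTensor_of_flat_away {D T S S' : Type u} [CommRing D] [CommRing T] [CommRing S] [CommRing S']
    [Algebra D T] [Algebra D S] [Algebra D S'] [Algebra S S'] [Algebra T S'] [IsScalarTower D S S']
    [IsScalarTower D T S'] [Algebra.IsPushout D T S S'] {f : D} (hf : IsUnit (algebraMap D T f))
    {A B Q : Type u} [AddCommGroup A] [Module S A] [Module D A] [IsScalarTower D S A]
    [AddCommGroup B] [Module S B] [Module D B] [IsScalarTower D S B]
    [AddCommGroup Q] [Module S Q] [Module D Q] [IsScalarTower D S Q]
    [Module.Flat (Localization.Away f) (Localization.Away f ⊗[D] Q)]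
    (g : A →ₗ[S] B) (p : B →ₗ[S] Q) (hg : Function.Injective g) (H : Function.Exact g p)
    (hp : Function.Surjective p) : Function.Injective (g.lTensor S') := by
  let Df := Localization.Away f
  letI : Algebra Df T := (IsLocalization.Away.lift (S := Df) f (g := algebraMap D T) hf).toAlgebra
  haveI : IsScalarTower D Df T :=
    .of_algebraMap_eq fun a => (IsLocalization.Away.lift_eq f hf a).symm
  haveI : Module.Flat D Df := IsLocalization.flat Df (Submonoid.powers f)
  let gD := g.restrictScalars D
  let pD := p.restrictScalars D
  have h0 : Function.Injective (gD.baseChange Df) := by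
    simp only [LinearMap.baseChange_eq_ltensor]
    exact Module.Flat.lTensor_preserves_injective_linearMap _ hg
  have h0e : Function.Exact (gD.baseChange Df) (pD.baseChange Df) := by
    simp only [LinearMap.baseChange_eq_ltensor]
    exact lTensor_exact Df H hp
  have h0s : Function.Surjective (pD.baseChange Df) := by
    simp only [LinearMap.baseChange_eq_ltensor]
    exact LinearMap.lTensor_surjective Df hp
  have h1' : Function.Injective ((gD.baseChange Df).lTensor T) :=
    LinearMap.lTensor_injective_of_exact_of_flat (pD.baseChange Df) h0s (gD.baseChange Df) h0 h0e T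
  let cA := AlgebraTensorModule.cancelBaseChange D Df T T A
  let cB := AlgebraTensorModule.cancelBaseChange D Df T T B
  have key1 : ∀ z, cB ((gD.baseChange Df).lTensor T z) = gD.lTensor T (cA z) := by
    intro z
    induction z using TensorProduct.induction_on with
    | zero => simp
    | add a b ha hb => simp only [map_add, ha, hb]
    | tmul c w =>
      induction w using TensorProduct.induction_on with
      | zero => simp
      | add a b ha hb => simp only [tmul_add, map_add, ha, hb]
      | tmul d n => simp [cA, cB]
  have h1 : Function.Injective (gD.lTensor T) := fun a b h => by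
    obtain ⟨a, rfl⟩ := cA.surjective a
    obtain ⟨b, rfl⟩ := cA.surjective b
    rw [← key1, ← key1] at h
    rw [h1' (cB.injective h)]
  let eA := Algebra.IsPushout.cancelBaseChange D T S S' A
  let eB := Algebra.IsPushout.cancelBaseChange D T S S' B
  have key : ∀ z, g.baseChange S' (eA.symm z) = eB.symm (gD.lTensor T z) := by
    intro z
    induction z using TensorProduct.induction_on with
    | zero => simp
    | add a b ha hb => simp only [map_add, ha, hb]
    | tmul r n => simp [eA, eB, gD, Algebra.IsPushout.cancelBaseChange]
  intro a b h
  obtain ⟨a, rfl⟩ := eA.symm.surjective a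
  obtain ⟨b, rfl⟩ := eA.symm.surjective b
  have h' : g.baseChange S' (eA.symm a) = g.baseChange S' (eA.symm b) := h
  rw [key, key] at h'
  rw [h1 (eB.symm.injective h')]

section presented

variable {S : Type u} [CommRing S] {M N : Type u} [AddCommGroup M] [Module S M] [AddCommGroup N] [Module S N]

/-- Evaluation of linear maps at generators. -/
def evalGen {n : ℕ} (m : Fin n → M) : (M →ₗ[S] N) →ₗ[S] (Fin n → N) where
  toFun g i := g (m i)
  map_add' _ _ := rfl
  map_smul' _ _ := rfl

/-- The relations on the values at generators. -/
def relMap {n r : ℕ} (a : Fin r → Fin n → S) : (Fin n → N) →ₗ[S] (Fin r → N) where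
  toFun v j := ∑ i, a j i • v i
  map_add' v w := funext fun j => by simp [smul_add, Finset.sum_add_distrib]
  map_smul' c v := funext fun j => by simp [Finset.smul_sum, smul_comm c]

variable {n r : ℕ} {m : Fin n → M} {a : Fin r → Fin n → S}
  (hm : Submodule.span S (Set.range m) = ⊤)
  (ha : Submodule.span S (Set.range a) = LinearMap.ker (Fintype.linearCombination S m))

include hm in
theorem injective_evalGen : Function.Injective (evalGen (S := S) (N := N) m) := fun _ _ h =>
  LinearMap.ext_on_range hm fun i => congrFun h i

include ha in
theorem sum_rel_eq_zero (j : Fin r) : ∑ i, a j i • m i = 0 := by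
  have : a j ∈ LinearMap.ker (Fintype.linearCombination S m) := ha ▸ Submodule.subset_span ⟨j, rfl⟩
  rw [LinearMap.mem_ker, Fintype.linearCombination_apply] at this
  exact this

include hm ha in
theorem exact_evalGen_relMap : Function.Exact (evalGen (S := S) (N := N) m) (relMap a) := by
  intro v
  constructor
  · intro hv
    let π := Fintype.linearCombination S m
    let l := Fintype.linearCombination S v
    have hπ : Function.Surjective π := by
      rw [← LinearMap.range_eq_top, Fintype.range_linearCombination, hm]
    have hl : LinearMap.ker π ≤ LinearMap.ker l := by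
      rw [← ha, Submodule.span_le]
      rintro _ ⟨j, rfl⟩
      show l (a j) = 0
      rw [Fintype.linearCombination_apply]
      exact congrFun hv j
    refine ⟨(LinearMap.ker π).liftQ l hl ∘ₗ (π.quotKerEquivOfSurjective hπ).symm.toLinearMap, funext fun i => ?_⟩
    have hi : π (Pi.single i 1) = m i := by simp [π]
    show (LinearMap.ker π).liftQ l hl ((π.quotKerEquivOfSurjective hπ).symm (m i)) = v i
    rw [← hi, LinearMap.quotKerEquivOfSurjective_symm_apply, Submodule.liftQ_apply]
    simp [l]
  · rintro ⟨g, rfl⟩
    funext j
    show ∑ i, a j i • g (m i) = 0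
    rw [← map_zero g, ← sum_rel_eq_zero ha j, map_sum]
    exact Finset.sum_congr rfl fun i _ => (map_smul g _ _).symm

variable {S' : Type u} [CommRing S'] [Algebra S S'] {M' N' : Type u}
  [AddCommGroup M'] [Module S M'] [Module S' M'] [IsScalarTower S S' M']
  [AddCommGroup N'] [Module S N'] [Module S' N'] [IsScalarTower S S' N']
  {pM : M →ₗ[S] M'} {pN : N →ₗ[S] N'} (jM : IsBaseChange S' pM) (jN : IsBaseChange S' pN)

include hm ha jN in
/-- Linear maps out of a presented module commute with a base change keeping two injections. -/
theorem bijective_homBC (h1 : Function.Injective ((evalGen (S := S) (N := N) m).lTensor S'))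
    (h2 : Function.Injective ((LinearMap.range (relMap (N := N) a)).subtype.lTensor S')) :
    Function.Bijective ((IsBaseChange.linearMapLeftRightHom jM pN).liftBaseChange S') := by
  let Φ := (IsBaseChange.linearMapLeftRightHom jM pN).liftBaseChange S'
  let en := (IsBaseChange.finitePow (Fin n) jN).equiv
  let er := (IsBaseChange.finitePow (Fin r) jN).equiv
  let ev' : (M' →ₗ[S'] N') → (Fin n → N') := fun g i => g (pM (m i))
  have hev : Function.Injective ev' := fun g g' h => jM.algHom_ext g g' fun x => by
    refine LinearMap.congr_fun (LinearMap.ext_on_range (f := g.restrictScalars S ∘ₗ pM)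
      (g := g'.restrictScalars S ∘ₗ pM) hm fun i => ?_) x
    exact congrFun h i
  have hsq : ∀ x, ev' (Φ x) = en ((evalGen m).lTensor S' x) := fun x => by
    induction x using TensorProduct.induction_on with
    | zero => funext i; simp [ev']
    | add p q hp hq => simp only [map_add, ← hp, ← hq]; rfl
    | tmul s g =>
      funext i
      simp [ev', Φ, en, IsBaseChange.equiv_tmul, evalGen]
  have hsq2 : ∀ z j, er ((relMap a).lTensor S' z) j = ∑ i, a j i • en z i := fun z j => by
    induction z using TensorProduct.induction_on with
    | zero => simp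
    | add p q hp hq => simp [map_add, hp, hq, smul_add, Finset.sum_add_distrib]
    | tmul s v =>
      simp [en, er, IsBaseChange.equiv_tmul, relMap, map_sum, Finset.smul_sum, smul_comm s]
  refine ⟨fun x y hxy => h1 (en.injective ?_), fun g => ?_⟩
  · rw [← hsq, ← hsq]
    exact congrArg ev' hxy
  · obtain ⟨z, hz⟩ := en.surjective (ev' g)
    have hz0 : (relMap a).lTensor S' z = 0 := by
      apply er.injective
      funext j
      rw [hsq2, hz, map_zero]
      show ∑ i, a j i • g (pM (m i)) = 0
      rw [← map_zero g, ← map_zero pM, ← sum_rel_eq_zero ha j, map_sum, map_sum]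
      refine Finset.sum_congr rfl fun i _ => ?_
      rw [map_smul]
      exact (g.map_smul_of_tower _ _).symm
    let δ' := (relMap (N := N) a).rangeRestrict
    have hex' : Function.Exact (evalGen (S := S) (N := N) m) δ' := fun v => by
      rw [← exact_evalGen_relMap hm ha v]
      exact ⟨fun h => congrArg Subtype.val h, fun h => Subtype.ext h⟩
    have hz1 : δ'.lTensor S' z = 0 := h2 (by
      rw [map_zero, ← LinearMap.comp_apply, ← LinearMap.lTensor_comp]
      exact hz0)
    obtain ⟨x, rfl⟩ := (lTensor_exact S' hex' (relMap (N := N) a).surjective_rangeRestrict z).1 hz1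
    exact ⟨x, hev ((hsq x).trans hz)⟩

end presented

/-- Generic base change of linear maps between finite modules over an algebra of finite type over a domain. -/
theorem exists_homBC {D S : Type u} [CommRing D] [IsDomain D] [IsNoetherianRing D] [CommRing S] [Algebra D S]
    [Algebra.FiniteType D S] (M N : Type u) [AddCommGroup M] [Module S M] [Module.Finite S M]
    [AddCommGroup N] [Module S N] [Module.Finite S N] :
    ∃ f : D, f ≠ 0 ∧ ∀ g : D, f ∣ g → ∀ (T S' : Type u) [CommRing T] [CommRing S'] [Algebra D T] [Algebra D S']
      [Algebra S S'] [Algebra T S'] [IsScalarTower D S S'] [IsScalarTower D T S'] [Algebra.IsPushout D T S S'],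
      IsUnit (algebraMap D T g) → ∀ (M' N' : Type u) [AddCommGroup M'] [Module S M'] [Module S' M']
      [IsScalarTower S S' M'] [AddCommGroup N'] [Module S N'] [Module S' N'] [IsScalarTower S S' N']
      (pM : M →ₗ[S] M') (pN : N →ₗ[S] N') (jM : IsBaseChange S' pM), IsBaseChange S' pN →
      Function.Bijective ((IsBaseChange.linearMapLeftRightHom jM pN).liftBaseChange S') := by
  classical
  haveI : IsNoetherianRing S := Algebra.FiniteType.isNoetherianRing D S
  obtain ⟨n, m, hm⟩ := Module.Finite.exists_fin (R := S) (M := M)
  obtain ⟨r, a, ha⟩ := Submodule.fg_iff_exists_fin_generating_family.1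
    (IsNoetherian.noetherian (LinearMap.ker (Fintype.linearCombination S m)))
  let Q₁ := (Fin n → N) ⧸ LinearMap.range (evalGen (S := S) (N := N) m)
  let Q₂ := (Fin r → N) ⧸ LinearMap.range (relMap (N := N) a)
  letI : Module D N := Module.compHom N (algebraMap D S)
  haveI : IsScalarTower D S N := .of_algebraMap_smul fun _ _ => rfl
  obtain ⟨f₁, hf₁, -, h₁⟩ := H7Flat.exists_free_baseChange (R := D) S Q₁ 1 one_ne_zero
  obtain ⟨f₂, hf₂, -, h₂⟩ := H7Flat.exists_free_baseChange (R := D) S Q₂ 1 one_ne_zero
  refine ⟨f₁ * f₂, mul_ne_zero hf₁ hf₂, fun g hg T S' _ _ _ _ _ _ _ _ _ hu M' N' _ _ _ _ _ _ _ _ pM pN jM jN => ?_⟩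
  haveI : Module.Free (Localization.Away g) (Localization.Away g ⊗[D] Q₁) := h₁ g ((dvd_mul_right _ _).trans hg)
  haveI : Module.Free (Localization.Away g) (Localization.Away g ⊗[D] Q₂) := h₂ g ((dvd_mul_left _ _).trans hg)
  letI : Module D (M →ₗ[S] N) := Module.compHom _ (algebraMap D S)
  haveI : IsScalarTower D S (M →ₗ[S] N) := .of_algebraMap_smul fun _ _ => rfl
  refine bijective_homBC hm ha jM jN ?_ ?_
  · exact injective_lTensor_of_flat_away (T := T) hu (evalGen (S := S) (N := N) m) (LinearMap.range _).mkQ
      (injective_evalGen hm) (LinearMap.exact_map_mkQ_range _) (Submodule.mkQ_surjective _)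
  · exact injective_lTensor_of_flat_away (T := T) hu (LinearMap.range (relMap (N := N) a)).subtype
      (LinearMap.range _).mkQ (Submodule.subtype_injective _)
      (LinearMap.exact_subtype_mkQ _) (Submodule.mkQ_surjective _)

end Groth.Agent.H12Pic.Bdd
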