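import Groth.Agent.H12Pic.Bdd.Points
import Groth.Agent.H12Pic.Bdd.HomAlg
import Groth.Agent.H10Coh.SheafHom.Pullback
import Groth.Agent.H11Tilde.TransposeCover
import Groth.Agent.LeadBC.BaseChange
import Groth.Agent.H29Ref.HomSections
import Groth.Agent.H06EGA9.FlatConstructible

/-!
# The sheaf Hom of coherent families commutes with fibres above a dense open of the base
-/

set_option autoImplicit false
set_option linter.style.haveILetI false
set_option linter.unusedSectionVars false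
universe u

open CategoryTheory CategoryTheory.Limits AlgebraicGeometry Opposite TopologicalSpace TensorProduct

noncomputable section

namespace Groth.Agent.H12Pic.Bdd

open Groth.Agent.H29Ref Groth.Agent.H10Coh.SheafHom Groth.Agent.LeadFF Groth.Agent.LeadBC H8Props.PullSections

variable {D : Type u} [CommRing D] [IsDomain D] [IsNoetherianRing D] {P : Scheme.{u}}
  [P.Over (Spec (CommRingCat.of D))] [LocallyOfFiniteType (P ↘ Spec (CommRingCat.of D))]
  [QuasiCompact (P ↘ Spec (CommRingCat.of D))] [IsLocallyNoetherian P]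

/-- The affine opens of a scheme of finite type over an affine base have algebras of finite type. -/
theorem finiteType_sc {V : P.Opens} (hV : IsAffineOpen V) : (sc D V : D →+* Γ(P, V)).FiniteType := by
  have h : ((P ↘ Spec (CommRingCat.of D)).appLE ⊤ V le_top).hom.FiniteType :=
    HasRingHomProperty.appLE @LocallyOfFiniteType (P ↘ Spec (CommRingCat.of D)) inferInstance
      ⟨⊤, isAffineOpen_top _⟩ ⟨V, hV⟩ le_top
  exact h.comp (RingHom.FiniteType.of_surjective _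
    (Scheme.ΓSpecIso (CommRingCat.of D)).commRingCatIsoToRingEquiv.symm.surjective)

/-- Generic base change of the sheaf Hom. -/
theorem exists_homBC_locus (F G : P.Modules) (hF : Coh.IsCoh F) (hG : Coh.IsCoh G) :
    ∃ f : D, f ≠ 0 ∧ ∀ (T : Type u) [CommRing T] [Algebra D T] {X' : Scheme.{u}} [X'.Over (Spec (CommRingCat.of T))]
      (q : X' ⟶ P), IsPullback q (X' ↘ Spec (CommRingCat.of T)) (P ↘ Spec (CommRingCat.of D))
        (Spec.map (CommRingCat.ofHom (algebraMap D T))) → IsUnit (algebraMap D T f) →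
      ∃ c : qP q (RefHull.homSh F G) ≅ RefHull.homSh (qP q F) (qP q G), ∀ φ : F ⟶ G,
        c.hom.app ⊤ (OmegaSh.pullSect q (RefHull.homSh F G) ⊤ (RefHull.ofHom φ ⊤)) =
          RefHull.ofHom ((Scheme.Modules.pullback q).map φ) ⊤ := by
  classical
  haveI : F.IsQuasicoherent := hF.1
  haveI : G.IsQuasicoherent := hG.1
  haveI : CompactSpace P := QuasiCompact.compactSpace_of_compactSpace (P ↘ Spec (CommRingCat.of D))
  have hFP := H10Coh.isFP_of_isCoh F hF
  obtain ⟨s, hs, hcov⟩ := (isCompact_and_isOpen_iff_finite_and_eq_biUnion_affineOpens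
    (U := (Set.univ : Set P))).1 ⟨isCompact_univ, isOpen_univ⟩
  haveI := hs.to_subtype
  haveI := Fintype.ofFinite s
  have hV : ∀ V : s, ∃ f : D, f ≠ 0 ∧ ∀ g : D, f ∣ g → ∀ (T : Type u) [CommRing T] [Algebra D T] {X' : Scheme.{u}}
      [X'.Over (Spec (CommRingCat.of T))] (q : X' ⟶ P),
      IsPullback q (X' ↘ Spec (CommRingCat.of T)) (P ↘ Spec (CommRingCat.of D))
        (Spec.map (CommRingCat.ofHom (algebraMap D T))) → IsUnit (algebraMap D T g) →
      letI := (q.appLE V.1.1 (q ⁻¹ᵁ V.1.1) le_rfl).hom.toAlgebra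
      letI := Module.compHom Γ(qP q F, q ⁻¹ᵁ V.1.1) (q.appLE V.1.1 (q ⁻¹ᵁ V.1.1) le_rfl).hom
      letI := Module.compHom Γ(qP q G, q ⁻¹ᵁ V.1.1) (q.appLE V.1.1 (q ⁻¹ᵁ V.1.1) le_rfl).hom
      haveI : IsScalarTower Γ(P, V.1.1) Γ(X', q ⁻¹ᵁ V.1.1) Γ(qP q F, q ⁻¹ᵁ V.1.1) :=
        .of_algebraMap_smul fun _ _ => rfl
      haveI : IsScalarTower Γ(P, V.1.1) Γ(X', q ⁻¹ᵁ V.1.1) Γ(qP q G, q ⁻¹ᵁ V.1.1) :=
        .of_algebraMap_smul fun _ _ => rfl
      ∀ jF : IsBaseChange Γ(X', q ⁻¹ᵁ V.1.1) (pullLin q F (le_refl (q ⁻¹ᵁ V.1.1))),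
        IsBaseChange Γ(X', q ⁻¹ᵁ V.1.1) (pullLin q G (le_refl (q ⁻¹ᵁ V.1.1))) →
        Function.Bijective ((IsBaseChange.linearMapLeftRightHom jF
          (pullLin q G (le_refl (q ⁻¹ᵁ V.1.1)))).liftBaseChange Γ(X', q ⁻¹ᵁ V.1.1)) := fun V => by
    obtain ⟨⟨V, hV⟩, hVs⟩ := V
    letI : Algebra D Γ(P, V) := (sc D V).toAlgebra
    haveI : Algebra.FiniteType D Γ(P, V) := finiteType_sc hV
    haveI := H10Coh.finite_sections F hF.2 hV
    haveI := H10Coh.finite_sections G hG.2 hV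
    obtain ⟨f, hf, h⟩ := exists_homBC (D := D) (S := Γ(P, V)) Γ(F, V) Γ(G, V)
    refine ⟨f, hf, fun g hg T _ _ X' _ q hsq hu => ?_⟩
    haveI := isAffineHom_fst hsq
    let h' := le_refl (q ⁻¹ᵁ V)
    letI : Algebra Γ(P, V) Γ(X', q ⁻¹ᵁ V) := (q.appLE V _ h').hom.toAlgebra
    letI : Algebra T Γ(X', q ⁻¹ᵁ V) := (sc T (q ⁻¹ᵁ V)).toAlgebra
    letI : Algebra D Γ(X', q ⁻¹ᵁ V) := ((sc T (q ⁻¹ᵁ V)).comp (algebraMap D T)).toAlgebra
    have happ : q.appLE V (q ⁻¹ᵁ V) h' = q.app V := (Scheme.Hom.app_eq_appLE q).symm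
    haveI : IsScalarTower D Γ(P, V) Γ(X', q ⁻¹ᵁ V) := .of_algebraMap_eq fun a => by
      show _ = q.appLE V (q ⁻¹ᵁ V) h' (sc D V a)
      rw [happ]; exact (app_scal hsq V a).symm
    haveI : IsScalarTower D T Γ(X', q ⁻¹ᵁ V) := .of_algebraMap_eq fun _ => rfl
    haveI : Algebra.IsPushout D T Γ(P, V) Γ(X', q ⁻¹ᵁ V) := by
      haveI : Algebra.IsPushout D Γ(P, V) T Γ(X', q ⁻¹ᵁ V) := CommRingCat.isPushout_iff_isPushout.mp (by
        have := isPushout_scal hsq hV
        rw [← happ] at this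
        exact this)
      exact Algebra.IsPushout.symm inferInstance
    letI := Module.compHom Γ(qP q F, q ⁻¹ᵁ V) (q.appLE V _ h').hom
    letI := Module.compHom Γ(qP q G, q ⁻¹ᵁ V) (q.appLE V _ h').hom
    haveI : IsScalarTower Γ(P, V) Γ(X', q ⁻¹ᵁ V) Γ(qP q F, q ⁻¹ᵁ V) := .of_algebraMap_smul fun _ _ => rfl
    haveI : IsScalarTower Γ(P, V) Γ(X', q ⁻¹ᵁ V) Γ(qP q G, q ⁻¹ᵁ V) := .of_algebraMap_smul fun _ _ => rfl
    intro jF jG
    exact h g hg T Γ(X', q ⁻¹ᵁ V) hu _ _ _ _ jF jG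
  choose f hf hV using hV
  refine ⟨∏ V, f V, Finset.prod_ne_zero_iff.2 fun V _ => hf V, fun T _ _ X' _ q hsq hu => ?_⟩
  haveI := isAffineHom_fst hsq
  have hqF := H29Fitt.isQCoh_pullback q F hF.1
  have hbasis : ∀ (W : P.Opens) (x : P), x ∈ W → ∃ U, IsAffineOpen U ∧ x ∈ U ∧ U ≤ W := fun W x hx =>
    exists_isAffineOpen_mem_and_subset (U := W) hx
  obtain ⟨τ, hτ⟩ := H17.PrinOmega.exists_hom_of_basis (RefHull.homSh F G)
    ((Scheme.Modules.pushforward q).obj (RefHull.homSh (qP q F) (qP q G))) IsAffineOpen hbasis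
    (fun U hU => bcSec q hU) fun U U' hU hU' e φ => by
      refine (bijective_toLinₗ (qP q F) (qP q G) hqF (hU'.preimage q)).1 ?_
      refine ext_pullLin q hU (hU'.preimage q) (fun y hy => e hy) _ _ fun m => ?_
      show toLin _ ((qP q F).presheaf.map _ (OmegaSh.pullSect q F U m)) =
        toLin ((RefHull.homSh (qP q F) (qP q G)).presheaf.map _ (bcSec q hU φ))
          ((qP q F).presheaf.map _ (OmegaSh.pullSect q F U m))
      refine Eq.trans ?_ (toLin_res (F := qP q F) (G := qP q G) (fun y hy => e hy) _ _).symm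
      refine Eq.trans ?_ (congrArg ((qP q G).presheaf.map (homOfLE (fun y hy => e hy : q ⁻¹ᵁ U' ≤ q ⁻¹ᵁ U)).op)
        (bcSec_spec q hU φ m)).symm
      refine (congrArg (toLin (F := qP q F) (G := qP q G) (U := q ⁻¹ᵁ U')
        (bcSec q hU' ((RefHull.homSh F G).presheaf.map (homOfLE e).op φ)))
        (OmegaSh.pullSect_map q F e m).symm).trans ?_
      refine (bcSec_spec q hU' _ _).trans ?_
      exact (congrArg (OmegaSh.pullSect q G U') (toLin_res e φ m)).trans (OmegaSh.pullSect_map q G e _)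
  let ψ := ((Scheme.Modules.pullbackPushforwardAdjunction q).homEquiv (RefHull.homSh F G)
    (RefHull.homSh (qP q F) (qP q G))).symm τ
  have hψ : (Scheme.Modules.pullbackPushforwardAdjunction q).unit.app (RefHull.homSh F G) ≫
      (Scheme.Modules.pushforward q).map ψ = τ :=
    ((Scheme.Modules.pullbackPushforwardAdjunction q).homEquiv_unit _ _ ψ).symm.trans (Equiv.apply_symm_apply _ τ)
  have hψs : ∀ (V : P.Opens) (φ : Γ(RefHull.homSh F G, V)),
      ψ.app (q ⁻¹ᵁ V) (OmegaSh.pullSect q _ V φ) = τ.app V φ := fun V φ =>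
    congr($(congrArg (fun k => Scheme.Modules.Hom.app k V) hψ) φ)
  have hHc := H29Ref.isCoh_homSh F G hF hG
  haveI : IsIso ψ := by
    haveI : LocallyOfFiniteType (X' ↘ Spec (CommRingCat.of T)) :=
      MorphismProperty.of_isPullback (P := @LocallyOfFiniteType) hsq inferInstance
    refine H11Tilde.TransposeCover.isIso_of_bijective_cover ψ (H29Fitt.isQCoh_pullback q _ hHc.1)
      (H29Ref.isQCoh_homSh _ _ (H06EGA9.isFP_pullback q hFP) (H29Fitt.isQCoh_pullback q G hG.1))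
      (fun U => ∃ V : s, U = q ⁻¹ᵁ V.1.1) (fun x => ?_) fun U hU _ => ?_
    · have hx : q x ∈ (Set.univ : Set P) := trivial
      rw [hcov] at hx
      obtain ⟨V, hVs, hxV⟩ := Set.mem_iUnion₂.1 hx
      exact ⟨_, ⟨⟨V, hVs⟩, rfl⟩, V.2.preimage q, hxV⟩
    · obtain ⟨V, rfl⟩ := hU
      have hbij := hV V _ (Finset.dvd_prod_of_mem f (Finset.mem_univ V)) T q hsq hu
      obtain ⟨⟨V, hV'⟩, hVs⟩ := V
      have hV'' := hV'.preimage q
      let hle := le_refl (q ⁻¹ᵁ V)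
      letI := (q.appLE V (q ⁻¹ᵁ V) hle).hom.toAlgebra
      letI := Module.compHom Γ(qP q F, q ⁻¹ᵁ V) (q.appLE V (q ⁻¹ᵁ V) hle).hom
      letI := Module.compHom Γ(qP q G, q ⁻¹ᵁ V) (q.appLE V (q ⁻¹ᵁ V) hle).hom
      letI := Module.compHom Γ(qP q (RefHull.homSh F G), q ⁻¹ᵁ V) (q.appLE V (q ⁻¹ᵁ V) hle).hom
      haveI : IsScalarTower Γ(P, V) Γ(X', q ⁻¹ᵁ V) Γ(qP q F, q ⁻¹ᵁ V) := .of_algebraMap_smul fun _ _ => rfl
      haveI : IsScalarTower Γ(P, V) Γ(X', q ⁻¹ᵁ V) Γ(qP q G, q ⁻¹ᵁ V) := .of_algebraMap_smul fun _ _ => rfl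
      haveI : IsScalarTower Γ(P, V) Γ(X', q ⁻¹ᵁ V) Γ(qP q (RefHull.homSh F G), q ⁻¹ᵁ V) :=
        .of_algebraMap_smul fun _ _ => rfl
      have jH := isBaseChange_pullLin q (RefHull.homSh F G) hle hHc.1 hV' hV''
      have jF := isBaseChange_pullLin q F hle hF.1 hV' hV''
      have jG := isBaseChange_pullLin q G hle hG.1 hV' hV''
      let Φ := (IsBaseChange.linearMapLeftRightHom jF (pullLin q G hle)).liftBaseChange Γ(X', q ⁻¹ᵁ V)
      let e₀ : (Γ(X', q ⁻¹ᵁ V) ⊗[Γ(P, V)] Γ(RefHull.homSh F G, V)) ≃ₗ[Γ(X', q ⁻¹ᵁ V)]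
          (Γ(X', q ⁻¹ᵁ V) ⊗[Γ(P, V)] (Γ(F, V) →ₗ[Γ(P, V)] Γ(G, V))) :=
        (LinearEquiv.ofBijective _ (bijective_toLinₗ F G hF.1 hV')).baseChange _ Γ(X', q ⁻¹ᵁ V) _ _
      have key : ∀ z, toLinₗ (qP q F) (qP q G) (q ⁻¹ᵁ V) (ψ.app (q ⁻¹ᵁ V) (jH.equiv z)) = Φ (e₀ z) := fun z => by
        induction z using TensorProduct.induction_on with
        | zero => simp
        | add a b ha hb =>
          refine Eq.trans (b := toLinₗ (qP q F) (qP q G) _ (ψ.app _ (jH.equiv a)) +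
            toLinₗ (qP q F) (qP q G) _ (ψ.app _ (jH.equiv b))) ?_ ?_
          · rw [map_add, map_add]
            exact map_add _ _ _
          · rw [ha, hb, map_add, map_add]
        | tmul b φ =>
          rw [IsBaseChange.equiv_tmul, Scheme.Modules.Hom.app_smul,
            show e₀ (b ⊗ₜ φ) = b ⊗ₜ toLin φ from rfl, LinearMap.liftBaseChange_tmul, map_smul]
          refine congrArg (b • ·) (ext_pullLin q hV' hV'' hle _ _ fun m => ?_)
          rw [IsBaseChange.linearMapLeftRightHom_comp_apply]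
          show toLin (ψ.app (q ⁻¹ᵁ V) ((qP q _).presheaf.map (homOfLE hle).op (OmegaSh.pullSect q _ V φ)))
              ((qP q F).presheaf.map (homOfLE hle).op (OmegaSh.pullSect q F V m)) =
            (qP q G).presheaf.map (homOfLE hle).op (OmegaSh.pullSect q G V (toLin φ m))
          rw [H11Tilde.app_map_apply ψ hle, hψs V φ, hτ V hV' φ, toLin_res, bcSec_spec]
      have hb : Function.Bijective fun z => toLinₗ (qP q F) (qP q G) (q ⁻¹ᵁ V) (ψ.app (q ⁻¹ᵁ V) (jH.equiv z)) := by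
        rw [funext key]
        exact (hbij jF jG).comp e₀.bijective
      exact (Function.Bijective.of_comp_iff' (bijective_toLinₗ (qP q F) (qP q G) hqF hV'') _).1
        ((Function.Bijective.of_comp_iff _ jH.equiv.bijective).1 hb)
  refine ⟨asIso ψ, fun φ => ?_⟩
  refine Subtype.ext (funext fun y => ?_)
  obtain ⟨U, hU, hxU, -⟩ := hbasis ⊤ (q.base y.1) trivial
  have h1 : (RefHull.homSh (qP q F) (qP q G)).presheaf.map (homOfLE (le_top : q ⁻¹ᵁ U ≤ ⊤)).op
      (ψ.app ⊤ (OmegaSh.pullSect q _ ⊤ (RefHull.ofHom φ ⊤))) =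
      RefHull.ofHom ((Scheme.Modules.pullback q).map φ) (q ⁻¹ᵁ U) := by
    rw [← H11Tilde.app_map_apply ψ le_top]
    refine (congrArg (ψ.app (q ⁻¹ᵁ U))
      (OmegaSh.pullSect_map q _ (le_top : U ≤ ⊤) _).symm).trans ?_
    refine ((hψs U _).trans (hτ U hU _)).trans ?_
    refine ((existsUnique_bcHom q hU _).choose_spec.2 _ fun m => ?_).symm
    rw [toLin_ofHom, ← H17.PullSect.pullSect_natural]
    exact congrArg (OmegaSh.pullSect q G U) (toLin_ofHom φ U m).symm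
  exact congrFun (congrArg Subtype.val h1) ⟨y.1, hxU⟩

end Groth.Agent.H12Pic.Bdd
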