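import Groth.Agent.H12Pic.Bdd.Frame
import Groth.Agent.H12Pic.Bdd.HomSheaf
import Groth.Agent.H8Props.RelPCSourceMor
import Groth.Agent.H16Derived.ProjFormula.ClosedImm
import Groth.Agent.LeadProper.Supp
import Groth.Agent.H29Omega.ConormalStalk
import Groth.Agent.H10Coh.Proj.Coherent
import Groth.Agent.H10Coh.PushFinite

/-!
# Bounded sets of modules in the sense of a single family over a scheme of finite type
-/

set_option autoImplicit false
set_option linter.style.haveILetI false
set_option linter.unusedSectionVars false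
universe u

open CategoryTheory CategoryTheory.Limits AlgebraicGeometry TopologicalSpace Opposite
open Groth.Agent.H25Theta (pb pT pC pI tI)

noncomputable section

namespace Groth.Agent.H12Pic.Bdd

theorem isZero_of_support_empty {Y : Scheme.{u}} {M : Y.Modules} (h : CohB1.support M = ∅) : IsZero M := by
  refine (IsZero.iff_id_eq_zero M).2 (H29Omega.eq_zero_of_stalkLin _ fun x a => ?_)
  haveI : Subsingleton (M.presheaf.stalk x) := by
    have hx : x ∉ CohB1.support M := by rw [h]; exact Set.notMem_empty x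
    exact not_not.1 hx
  exact Subsingleton.elim _ _

variable {k : Type u} [Field k] {X : Scheme.{u}} [X.Over (Spec (CommRingCat.of k))]
  [IsProper (X ↘ Spec (CommRingCat.of k))]

theorem isClosedImmersion_mapP {R R' : Type u} [CommRing R] [Algebra k R] [CommRing R'] [Algebra k R']
    (φ : R →ₐ[k] R') (h : Function.Surjective φ) : IsClosedImmersion (mapP X φ) :=
  MorphismProperty.of_isPullback (P := @IsClosedImmersion) (isPullback_mapP X φ).flip
    (IsClosedImmersion.spec_of_surjective _ h)

/-- A bounded set is the set of fibres of one coherent family over a scheme of finite type. -/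
theorem Bdd.isBounded {Q : X.Modules → Prop} (h : Bdd k X Q) : Pic13.IsBounded k X Q := by
  classical
  obtain ⟨ι₀, hι, B₀, F₀, hF₀, hm⟩ := h
  haveI := hι
  obtain ⟨n, ⟨en⟩⟩ := Finite.exists_equiv_fin ι₀
  let B : Fin n → Base k := fun i => B₀ (en.symm i)
  let F : ∀ i, (PR k X (B i).R).Modules := fun i => F₀ (en.symm i)
  let R := ∀ i, (B i).R
  haveI : Algebra.FiniteType k R := H8Props.RingRelPC.finiteType_pi (R := k) fun i => (B i).R
  let π : ∀ i, R →ₐ[k] (B i).R := fun i => Pi.evalAlgHom k (fun i => (B i).R) i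
  have hπ : ∀ i, Function.Surjective (π i) := fun i a => ⟨Function.update 0 i a, Function.update_self (β := fun i => (B i).R) i a 0⟩
  haveI : ∀ i, IsClosedImmersion (mapP X (π i)) := fun i => isClosedImmersion_mapP (π i) (hπ i)
  let G : Fin n → (PR k X R).Modules := fun i => (Scheme.Modules.pushforward (mapP X (π i))).obj (F i)
  have hG : ∀ i, Coh.IsCoh (G i) := fun i => H10Coh.isCoh_push_of_isFinite (mapP X (π i)) _ (hF₀ _)
  haveI : LocallyOfFiniteType (qR k R) :=
    (HasRingHomProperty.Spec_iff (P := @LocallyOfFiniteType)).2 (RingHom.finiteType_algebraMap.2 inferInstance)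
  refine ⟨Spec (CommRingCat.of R), qR k R, inferInstance, inferInstance, ∐ G, H10Coh.isCoh_sigma G hG,
    fun L hL => ?_⟩
  obtain ⟨i₀, t, he⟩ := hm L hL
  obtain ⟨i, rfl⟩ : ∃ i, en.symm i = i₀ := ⟨en i₀, en.symm_apply_apply i₀⟩
  obtain ⟨e⟩ := he
  let T : R →ₐ[k] k := t.comp (π i)
  refine ⟨sp T, sp_pt T, ⟨(?_ : (fib X T).obj (∐ G) ≅ L)⟩⟩
  have hzero : ∀ j, j ≠ i → IsZero ((fib X T).obj (G j)) := fun j hj => by
    refine isZero_of_support_empty (Set.eq_empty_of_forall_notMem fun x hx => ?_)
    rw [LeadProper.support_pullback (G j) (hG j).1 (hG j).2] at hx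
    obtain ⟨z, hz⟩ := LeadProper.support_subset_range (G j) (hG j).1 (mapP X (π j)) (Iso.refl _) hx
    have h1 := congrArg (fun p => (toR k X R p).asIdeal) hz
    simp only [toR_slice_apply] at h1
    rw [← Scheme.Hom.comp_apply, mapP_toR, Scheme.Hom.comp_apply] at h1
    have h2 : (Pi.single i 1 : R) ∈ RingHom.ker T.toRingHom := by
      rw [← h1]
      show π j (Pi.single i 1) ∈ (toR k X (B j).R z).asIdeal
      rw [show π j (Pi.single i 1) = 0 from Pi.single_eq_of_ne hj 1]
      exact zero_mem _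
    have h3 : T (Pi.single i 1) = 0 := h2
    rw [show T (Pi.single i 1) = t 1 from congrArg t (Pi.single_eq_same i 1), map_one] at h3
    exact one_ne_zero h3
  let eι : (fib X T).obj (G i) ≅ (fib X T).obj (∐ G) :=
    haveI : IsIso (Sigma.ι (fun j => (fib X T).obj (G j)) i) :=
      ⟨Sigma.desc fun j => if h : j = i then eqToHom (by rw [h]) else 0, by simp,
        Sigma.hom_ext _ _ fun j => by
          by_cases h : j = i
          · subst h; simp
          · exact (hzero j h).eq_of_src _ _⟩
    asIso (Sigma.ι (fun j => (fib X T).obj (G j)) i) ≪≫ (PreservesCoproduct.iso (fib X T) G).symm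
  haveI := H16Derived.ProjFormula.isIso_counit_of_isClosedImmersion (mapP X (π i)) (F i)
  exact eι.symm ≪≫ (pC (slice X t) (mapP X (π i)) (slice_mapP X (π i) t) (G i)).symm ≪≫
    (fib X t).mapIso (asIso ((Scheme.Modules.pullbackPushforwardAdjunction (mapP X (π i))).counit.app (F i))) ≪≫ e

/-- The fibres of one coherent family over a scheme of finite type form a bounded set. -/
theorem bdd_of_isBounded {Q : X.Modules → Prop} (h : Pic13.IsBounded k X Q) : Bdd k X Q := by
  classical
  obtain ⟨T, q, hq, hq', F, hF, hm⟩ := h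
  haveI := hq
  haveI := hq'
  haveI : CompactSpace T := QuasiCompact.compactSpace_of_compactSpace q
  haveI : IsLocallyNoetherian T := LocallyOfFiniteType.isLocallyNoetherian q
  obtain ⟨s, hs, hcov⟩ := (isCompact_and_isOpen_iff_finite_and_eq_biUnion_affineOpens
    (U := (Set.univ : Set T))).1 ⟨isCompact_univ, isOpen_univ⟩
  haveI := hs.to_subtype
  obtain ⟨n, ⟨en⟩⟩ := Finite.exists_equiv_fin s
  letI : T.Over (Spec (CommRingCat.of k)) := ⟨q⟩
  haveI : LocallyOfFiniteType (T ↘ Spec (CommRingCat.of k)) := hq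
  haveI : QuasiCompact (T ↘ Spec (CommRingCat.of k)) := hq'
  letI : ∀ i : Fin n, Algebra k Γ(T, (en.symm i).1.1) := fun i => (LeadBC.sc k (en.symm i).1.1).toAlgebra
  haveI : ∀ i : Fin n, Algebra.FiniteType k Γ(T, (en.symm i).1.1) := fun i =>
    finiteType_sc (D := k) (en.symm i).1.2
  have hsc : ∀ i : Fin n, (en.symm i).1.2.fromSpec ≫ q = qR k Γ(T, (en.symm i).1.1) := fun i => by
    have h := IsAffineOpen.SpecMap_appLE_fromSpec q (isAffineOpen_top _) (en.symm i).1.2 (le_top : _ ≤ q ⁻¹ᵁ ⊤)
    rw [IsAffineOpen.fromSpec_top, Scheme.isoSpec_Spec_inv] at h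
    · rw [← h, ← Spec.map_comp]
      rfl
  let m : ∀ i : Fin n, PR k X Γ(T, (en.symm i).1.1) ⟶ Pic13.prodK k X q := fun i =>
    pullback.lift (pullback.fst _ _) (pullback.snd _ _ ≫ (en.symm i).1.2.fromSpec)
      (by rw [Category.assoc, hsc]; exact pullback.condition)
  refine ⟨Fin n, inferInstance, fun i => ⟨Γ(T, (en.symm i).1.1)⟩, fun i => pb (m i) F,
    fun i => ?_, fun L hL => ?_⟩
  · haveI : IsLocallyNoetherian (Pic13.prodK k X q) :=
      LocallyOfFiniteType.isLocallyNoetherian (pullback.snd (X ↘ Spec (CommRingCat.of k)) q)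
    exact H17.ConsProp.isCoh_pullback (m i) hF
  obtain ⟨w, hw, ⟨e⟩⟩ := hm L hL
  have hx : w default ∈ (Set.univ : Set T) := trivial
  rw [hcov] at hx
  obtain ⟨V, hVs, hwV⟩ := Set.mem_iUnion₂.1 hx
  obtain ⟨i, hi⟩ : ∃ i, en.symm i = ⟨V, hVs⟩ := ⟨_, en.symm_apply_apply _⟩
  have hr : Set.range w ⊆ Set.range (en.symm i).1.2.fromSpec := by
    rw [IsAffineOpen.range_fromSpec, hi]
    rintro _ ⟨z, rfl⟩
    rwa [Subsingleton.elim z default]
  let l := IsOpenImmersion.lift (en.symm i).1.2.fromSpec w hr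
  have hl : l ≫ (en.symm i).1.2.fromSpec = w := IsOpenImmersion.lift_fac _ _ _
  let t₀ := Spec.preimage l
  have ht₀ : CommRingCat.ofHom (algebraMap k Γ(T, (en.symm i).1.1)) ≫ t₀ = 𝟙 _ := by
    apply Spec.map_injective
    rw [Spec.map_comp, Spec.map_preimage, Spec.map_id, ← hw, ← hl, Category.assoc, hsc]
  let t : Γ(T, (en.symm i).1.1) →ₐ[k] k :=
    { t₀.hom with commutes' := fun a => congr($(congrArg CommRingCat.Hom.hom ht₀) a) }
  have ht : sp t = l := Spec.map_preimage l
  refine ⟨i, t, ⟨pC (slice X t) (m i) ?_ F ≪≫ e⟩⟩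
  apply pullback.hom_ext
  · rw [Category.assoc, pullback.lift_fst]
    exact (slice_prR X t).trans (pullback.lift_fst _ _ _).symm
  · rw [Category.assoc, pullback.lift_snd, ← Category.assoc]
    erw [slice_toR, Category.assoc, ht, hl]
    exact (pullback.lift_snd _ _ _).symm

end Groth.Agent.H12Pic.Bdd
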