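import Groth.Prelude.Def_Pic13
import Groth.Agent.H25Theta.Basic
import Groth.Agent.H17.Reduced
import Groth.Agent.H17.ConsModModels
import Groth.Agent.H10Coh.FinType2

/-!
# Families of modules over affine bases of finite type and bounded sets of modules
-/

set_option autoImplicit false
set_option linter.style.haveILetI false
set_option linter.unusedSectionVars false
universe u

open CategoryTheory CategoryTheory.Limits AlgebraicGeometry

noncomputable section

namespace Groth.Agent.H12Pic.Bdd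

/-- An algebra of finite type. -/
structure Base (k : Type u) [Field k] where
  R : Type u
  [commRing : CommRing R]
  [algebra : Algebra k R]
  [finiteType : Algebra.FiniteType k R]

attribute [instance] Base.commRing Base.algebra Base.finiteType

variable (k : Type u) [Field k] (X : Scheme.{u}) [X.Over (Spec (CommRingCat.of k))]

section

variable (R : Type u) [CommRing R] [Algebra k R]

/-- `Spec R → Spec k`. -/
abbrev qR : Spec (CommRingCat.of R) ⟶ Spec (CommRingCat.of k) :=
  Spec.map (CommRingCat.ofHom (algebraMap k R))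

/-- `X ×ₖ Spec R`. -/
abbrev PR : Scheme.{u} := Pic13.prodK k X (qR k R)

/-- The projection to `X`. -/
abbrev prR : PR k X R ⟶ X := pullback.fst _ _

/-- The projection to the base. -/
abbrev toR : PR k X R ⟶ Spec (CommRingCat.of R) := pullback.snd _ _

instance : (PR k X R).Over (Spec (CommRingCat.of R)) := ⟨toR k X R⟩

theorem over_eq : (PR k X R ↘ Spec (CommRingCat.of R)) = toR k X R := rfl

end

variable {k} {X}

section

variable {R R' R'' : Type u} [CommRing R] [Algebra k R] [CommRing R'] [Algebra k R'] [CommRing R''] [Algebra k R'']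

/-- The morphism of spectra of an algebra map. -/
abbrev sp (φ : R →ₐ[k] R') : Spec (CommRingCat.of R') ⟶ Spec (CommRingCat.of R) :=
  Spec.map (CommRingCat.ofHom φ.toRingHom)

theorem sp_qR (φ : R →ₐ[k] R') : sp φ ≫ qR k R = qR k R' := by
  rw [← Spec.map_comp, ← CommRingCat.ofHom_comp]
  exact congrArg (fun g => Spec.map (CommRingCat.ofHom g)) φ.comp_algebraMap

theorem sp_pt (t : R →ₐ[k] k) : sp t ≫ qR k R = 𝟙 _ := by
  rw [sp_qR]
  exact (congrArg Spec.map (CommRingCat.hom_ext (RingHom.ext fun _ => rfl))).trans (Spec.map_id _)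

theorem sp_comp (φ : R →ₐ[k] R') (ψ : R' →ₐ[k] R'') : sp ψ ≫ sp φ = sp (ψ.comp φ) := by
  rw [← Spec.map_comp, ← CommRingCat.ofHom_comp]
  rfl

variable (X)

/-- Change of base. -/
def mapP (φ : R →ₐ[k] R') : PR k X R' ⟶ PR k X R :=
  pullback.lift (prR k X R') (toR k X R' ≫ sp φ) (by rw [Category.assoc, sp_qR]; exact pullback.condition)

@[reassoc (attr := simp)] theorem mapP_prR (φ : R →ₐ[k] R') : mapP X φ ≫ prR k X R = prR k X R' :=
  pullback.lift_fst _ _ _

@[reassoc (attr := simp)] theorem mapP_toR (φ : R →ₐ[k] R') : mapP X φ ≫ toR k X R = toR k X R' ≫ sp φ :=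
  pullback.lift_snd _ _ _

theorem isPullback_mapP (φ : R →ₐ[k] R') : IsPullback (mapP X φ) (toR k X R') (toR k X R) (sp φ) :=
  IsPullback.of_right (by rw [mapP_prR, sp_qR]; exact IsPullback.of_hasPullback _ _) (mapP_toR X φ)
    (IsPullback.of_hasPullback _ _)

/-- The slice at a point. -/
def slice (t : R →ₐ[k] k) : X ⟶ PR k X R := Pic13.sliceAt k X (qR k R) (sp t) (sp_pt t)

@[reassoc (attr := simp)] theorem slice_prR (t : R →ₐ[k] k) : slice X t ≫ prR k X R = 𝟙 X :=
  pullback.lift_fst _ _ _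

@[reassoc (attr := simp)] theorem slice_toR (t : R →ₐ[k] k) :
    slice X t ≫ toR k X R = (X ↘ Spec (CommRingCat.of k)) ≫ sp t :=
  pullback.lift_snd _ _ _

theorem isPullback_slice (t : R →ₐ[k] k) :
    IsPullback (slice X t) (X ↘ Spec (CommRingCat.of k)) (toR k X R) (sp t) :=
  IsPullback.of_right (by rw [slice_prR, sp_pt]; exact IsPullback.of_horiz_isIso ⟨by simp⟩) (slice_toR X t)
    (IsPullback.of_hasPullback _ _)

theorem slice_mapP (φ : R →ₐ[k] R') (t : R' →ₐ[k] k) : slice X t ≫ mapP X φ = slice X (t.comp φ) := by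
  apply pullback.hom_ext
  · rw [Category.assoc]; erw [mapP_prR, slice_prR, slice_prR]
  · rw [Category.assoc]; erw [mapP_toR, slice_toR_assoc, slice_toR, sp_comp]

/-- The fibre functor at a point. -/
abbrev fib (t : R →ₐ[k] k) : (PR k X R).Modules ⥤ X.Modules := Scheme.Modules.pullback (slice X t)

/-- Fibres after a change of base. -/
def fibMapP (φ : R →ₐ[k] R') (t : R' →ₐ[k] k) :
    Scheme.Modules.pullback (mapP X φ) ⋙ fib X t ≅ fib X (t.comp φ) :=
  Scheme.Modules.pullbackComp (slice X t) (mapP X φ) ≪≫ Scheme.Modules.pullbackCongr (slice_mapP X φ t)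

/-- Fibres of constant families. -/
def fibConst (t : R →ₐ[k] k) : Scheme.Modules.pullback (prR k X R) ⋙ fib X t ≅ 𝟭 X.Modules :=
  Scheme.Modules.pullbackComp (slice X t) (prR k X R) ≪≫ Scheme.Modules.pullbackCongr (slice_prR X t) ≪≫
    Scheme.Modules.pullbackId X

instance additive_fib (t : R →ₐ[k] k) : (fib X t).Additive :=
  (Scheme.Modules.pullbackPushforwardAdjunction (slice X t)).left_adjoint_additive

instance isLeftAdjoint_fib (t : R →ₐ[k] k) : (fib X t).IsLeftAdjoint :=
  (Scheme.Modules.pullbackPushforwardAdjunction (slice X t)).isLeftAdjoint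

/-- The point of the base under a slice. -/
theorem toR_slice_apply (t : R →ₐ[k] k) (x : X) :
    (toR k X R (slice X t x)).asIdeal = RingHom.ker t.toRingHom := by
  rw [← Scheme.Hom.comp_apply, slice_toR, Scheme.Hom.comp_apply]
  show Ideal.comap t.toRingHom ((X ↘ Spec (CommRingCat.of k)) x).asIdeal = _
  rw [(Ideal.eq_bot_or_top ((X ↘ Spec (CommRingCat.of k)) x).asIdeal).resolve_right
    ((X ↘ Spec (CommRingCat.of k)) x).isPrime.ne_top]
  rfl

variable [IsProper (X ↘ Spec (CommRingCat.of k))]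

instance isProper_toR : IsProper (toR k X R) := inferInstance

instance isProper_over : IsProper (PR k X R ↘ Spec (CommRingCat.of R)) := isProper_toR X

instance isAffineHom_slice (t : R →ₐ[k] k) : IsAffineHom (slice X t) :=
  MorphismProperty.of_isPullback (P := @IsAffineHom) (isPullback_slice X t).flip inferInstance

instance isAffineHom_mapP (φ : R →ₐ[k] R') : IsAffineHom (mapP X φ) :=
  MorphismProperty.of_isPullback (P := @IsAffineHom) (isPullback_mapP X φ).flip inferInstance

theorem isNoetherianRing_base [Algebra.FiniteType k R] : IsNoetherianRing R :=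
  Algebra.FiniteType.isNoetherianRing k R

instance isLocallyNoetherian_PR [Algebra.FiniteType k R] : IsLocallyNoetherian (PR k X R) :=
  haveI := isNoetherianRing_base (k := k) (R := R)
  LocallyOfFiniteType.isLocallyNoetherian (toR k X R)

end

variable (k) (X)

/-- A set of modules covered by the fibres of finitely many coherent families over affine bases. -/
def Bdd (Q : X.Modules → Prop) : Prop :=
  ∃ (ι : Type) (_ : Finite ι) (B : ι → Base k) (F : ∀ i, (PR k X (B i).R).Modules), (∀ i, Coh.IsCoh (F i)) ∧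
    ∀ L, Q L → ∃ (i : ι) (t : (B i).R →ₐ[k] k), Nonempty ((fib X t).obj (F i) ≅ L)

variable {k} {X}

theorem Bdd.mono {Q Q' : X.Modules → Prop} (h : Bdd k X Q) (hle : ∀ L, Q' L → ∃ L', Q L' ∧ Nonempty (L' ≅ L)) :
    Bdd k X Q' := by
  obtain ⟨ι, hι, B, F, hF, hm⟩ := h
  refine ⟨ι, hι, B, F, hF, fun L hL => ?_⟩
  obtain ⟨L', hL', ⟨e⟩⟩ := hle L hL
  obtain ⟨i, t, ⟨e'⟩⟩ := hm L' hL'
  exact ⟨i, t, ⟨e' ≪≫ e⟩⟩

theorem Bdd.subset {Q Q' : X.Modules → Prop} (h : Bdd k X Q) (hle : ∀ L, Q' L → Q L) : Bdd k X Q' :=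
  h.mono fun L hL => ⟨L, hle L hL, ⟨Iso.refl L⟩⟩

theorem bdd_false : Bdd k X fun _ => False :=
  ⟨PEmpty, inferInstance, fun i => i.elim, fun i => i.elim, fun i => i.elim, fun _ h => h.elim⟩

theorem Bdd.iUnion {κ : Type} [Finite κ] {Q : κ → X.Modules → Prop} (h : ∀ j, Bdd k X (Q j)) :
    Bdd k X fun L => ∃ j, Q j L := by
  choose ι hι B F hF hm using h
  haveI := hι
  exact ⟨Σ j, ι j, inferInstance, fun p => B p.1 p.2, fun p => F p.1 p.2, fun p => hF p.1 p.2,
    fun L ⟨j, hj⟩ => let ⟨i, t, he⟩ := hm j L hj; ⟨⟨j, i⟩, t, he⟩⟩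

theorem Bdd.union {Q Q' : X.Modules → Prop} (h : Bdd k X Q) (h' : Bdd k X Q') :
    Bdd k X fun L => Q L ∨ Q' L :=
  (Bdd.iUnion (Q := fun b : Bool => cond b Q Q') (fun b => by cases b <;> assumption)).subset
    fun L hL => hL.elim (fun h => ⟨true, h⟩) fun h => ⟨false, h⟩

theorem bdd_fibres {R : Type u} [CommRing R] [Algebra k R] [Algebra.FiniteType k R] {F : (PR k X R).Modules}
    (hF : Coh.IsCoh F) : Bdd k X fun L => ∃ t : R →ₐ[k] k, Nonempty ((fib X t).obj F ≅ L) :=
  ⟨Unit, inferInstance, fun _ => ⟨R⟩, fun _ => F, fun _ => hF, fun _ ⟨t, ht⟩ => ⟨(), t, ht⟩⟩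

end Groth.Agent.H12Pic.Bdd
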