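import Groth.Agent.H12Pic.Bdd.Comb
import Groth.Agent.H12Pic.Bdd.Span
import Groth.Agent.H12Pic.Bdd.HomSheaf
import Groth.Agent.H29RR.Indecomposable
import Groth.Agent.LeadBC.Gamma

/-!
# The kernels of all maps between members of two bounded sets form a bounded set
-/

set_option autoImplicit false
set_option linter.style.haveILetI false
set_option linter.unusedSectionVars false
universe u

open CategoryTheory CategoryTheory.Limits AlgebraicGeometry Opposite TopologicalSpace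

noncomputable section

namespace Groth.Agent.H12Pic.Bdd

open Groth.Agent.LeadFF Groth.Agent.LeadBC Groth.Agent.H10Coh.SheafHom

attribute [local instance 10000] H10Coh.hasSheafifyAb H10Coh.hasWeakSheafifyAb H10Coh.hasExtAb H10Coh.enoughInjAb

section

variable {k : Type u} [CommRing k] {Y : Scheme.{u}} [Y.Over (Spec (CommRingCat.of k))] {M N : Y.Modules}

theorem ofHom_add (φ ψ : M ⟶ N) : RefHull.ofHom (φ + ψ) ⊤ = RefHull.ofHom φ ⊤ + RefHull.ofHom ψ ⊤ :=
  Subtype.ext (funext fun y => LinearMap.ext fun v => by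
    obtain ⟨U, hy, m, rfl⟩ := TopCat.Presheaf.exists_germ_eq M.presheaf v
    show RefHull.stalkMapₗ (φ + ψ) y.1 _ = RefHull.stalkMapₗ φ y.1 _ + RefHull.stalkMapₗ ψ y.1 _
    rw [RefHull.stalkMapₗ_germ, RefHull.stalkMapₗ_germ, RefHull.stalkMapₗ_germ, ← map_add]
    rfl)

theorem ofHom_smulMod (c : k) (φ : M ⟶ N) :
    RefHull.ofHom (Formal.smulMod k M c ≫ φ) ⊤ =
      scal (Y ↘ Spec (CommRingCat.of k)) ⊤ c • RefHull.ofHom φ ⊤ := by
  refine Subtype.ext (funext fun y => LinearMap.ext fun v => ?_)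
  obtain ⟨U, hy, m, rfl⟩ := TopCat.Presheaf.exists_germ_eq M.presheaf v
  show RefHull.stalkMapₗ (Formal.smulMod k M c ≫ φ) y.1 _ =
    Y.presheaf.germ ⊤ y.1 trivial (scal (Y ↘ Spec (CommRingCat.of k)) ⊤ c) • RefHull.stalkMapₗ φ y.1 _
  rw [RefHull.stalkMapₗ_germ, RefHull.stalkMapₗ_germ,
    ← TopCat.Presheaf.germ_res_apply Y.presheaf (homOfLE (le_top : U ≤ ⊤)) y.1 hy, ← Mero.germ_smul]
  refine congrArg _ ?_
  show φ.app U ((Formal.smulMod k M c).app U m) = _
  rw [smulMod_app, Scheme.Modules.Hom.app_smul, map_scal]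

theorem ofHom_comb {n : ℕ} (c : Fin n → k) (v : Fin n → (M ⟶ N)) :
    RefHull.ofHom (∑ j, Formal.smulMod k M (c j) ≫ v j) ⊤ =
      ∑ j, scal (Y ↘ Spec (CommRingCat.of k)) ⊤ (c j) • RefHull.ofHom (v j) ⊤ := by
  let Φ : (M ⟶ N) →+ Γ(RefHull.homSh M N, ⊤) := AddMonoidHom.mk' (fun φ => RefHull.ofHom φ ⊤) ofHom_add
  exact (map_sum Φ _ _).trans (Finset.sum_congr rfl fun j _ => ofHom_smulMod (c j) (v j))

end

variable {k : Type u} [Field k] {X : Scheme.{u}} [X.Over (Spec (CommRingCat.of k))]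
  [IsProper (X ↘ Spec (CommRingCat.of k))]

/-- Flatness over a base after restriction to a principal open of it. -/
theorem isFlatOver_mapP {R R' : Type u} [CommRing R] [Algebra k R] [CommRing R'] [Algebra k R'] (φ : R →ₐ[k] R')
    {G : (PR k X R).Modules} (h : ∀ z, FlatMod.IsFlatOverAt (toR k X R) G (mapP X φ z)) :
    FlatMod.IsFlatOver (toR k X R') ((Scheme.Modules.pullback (mapP X φ)).obj G) := fun x' => by
  let σ := (isPullback_mapP X φ).isoPullback
  have h1 := H16Derived.BaseChange.isFlatOver_pullback_of_flat σ.hom (pullback.snd (toR k X R) (sp φ))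
    (M := (Scheme.Modules.pullback (pullback.fst (toR k X R) (sp φ))).obj G)
    (fun z => H06Mod.isFlatOverAt_baseChange (toR k X R) (sp φ) G z (by
      obtain ⟨z, rfl⟩ := σ.hom.surjective z
      rw [← Scheme.Hom.comp_apply, (isPullback_mapP X φ).isoPullback_hom_fst]
      exact h z)) x'
  rw [← H06Mod.isFlatOverAt_congr (isPullback_mapP X φ).isoPullback_hom_snd]
  exact H16Derived.BaseChange.isFlatOverAt_of_iso
    ((Scheme.Modules.pullbackComp σ.hom (pullback.fst (toR k X R) (sp φ))).app G ≪≫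
      (Scheme.Modules.pullbackCongr (isPullback_mapP X φ).isoPullback_hom_fst).app G) h1

/-- A family whose fibrewise morphisms are generically spanned by global ones. -/
theorem exists_spanning {D : Type u} [CommRing D] [IsDomain D] [Algebra k D] [Algebra.FiniteType k D]
    (B C : (PR k X D).Modules) (hB : Coh.IsCoh B) (hC : Coh.IsCoh C)
    (hfl : FlatMod.IsFlatOver (toR k X D) (RefHull.homSh B C)) :
    ∃ g : D, g ≠ 0 ∧ ∃ (n : ℕ) (v : Fin n → (B ⟶ C)), ∀ t : D →ₐ[k] k, t g ≠ 0 →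
      ∀ φ : (fib X t).obj B ⟶ (fib X t).obj C, ∃ c : Fin n → k,
        φ = ∑ j, Formal.smulMod k _ (c j) ≫ (fib X t).map (v j) := by
  haveI : IsNoetherianRing D := isNoetherianRing_base (k := k) (R := D)
  haveI : LocallyOfFiniteType (PR k X D ↘ Spec (CommRingCat.of D)) := (isProper_over X).toLocallyOfFiniteType
  haveI : QuasiCompact (PR k X D ↘ Spec (CommRingCat.of D)) := inferInstance
  have hK := H29Ref.isCoh_homSh B C hB hC
  obtain ⟨g₁, hg₁, hspan⟩ := exists_span_locus (A := D) _ hK hfl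
  obtain ⟨g₂, hg₂, hbc⟩ := exists_homBC_locus (D := D) B C hB hC
  haveI : Module.Finite D (Coh.HH (PR k X D) (RefHull.homSh B C) 0) :=
    H10Coh.finite_HH_proper D (PR k X D) _ hK 0
  obtain ⟨n, h, hh⟩ := Module.Finite.exists_fin (R := D) (M := Coh.HH (PR k X D) (RefHull.homSh B C) 0)
  choose v hv using fun j => ofHom_surjective (secTopEquiv (RefHull.homSh B C) (h j))
  refine ⟨g₁ * g₂, mul_ne_zero hg₁ hg₂, n, v, fun t ht φ => ?_⟩
  rw [map_mul, mul_ne_zero_iff] at ht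
  letI : Algebra D k := t.toRingHom.toAlgebra
  have hsq : IsPullback (slice X t) (X ↘ Spec (CommRingCat.of k)) (PR k X D ↘ Spec (CommRingCat.of D))
      (Spec.map (CommRingCat.ofHom (algebraMap D k))) := isPullback_slice X t
  obtain ⟨c, hc⟩ := hbc k (slice X t) hsq (isUnit_iff_ne_zero.2 ht.2)
  obtain ⟨s, hs⟩ := hspan k (slice X t) hsq
    (fun a => ⟨algebraMap k D a, t.commutes a⟩) ht.1 (c.inv.app ⊤ (RefHull.ofHom φ ⊤))
  obtain ⟨a, ha⟩ := (Submodule.mem_span_range_iff_exists_fun D).1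
    (hh.symm ▸ Submodule.mem_top : (secTopEquiv _).symm s ∈ Submodule.span D (Set.range h))
  refine ⟨fun j => t (a j), ofHom_injective ?_⟩
  rw [ofHom_comb]
  have hs' : s = ∑ j, scal (PR k X D ↘ Spec (CommRingCat.of D)) ⊤ (a j) • RefHull.ofHom (v j) ⊤ := by
    rw [← (secTopEquiv (RefHull.homSh B C)).apply_symm_apply s, ← ha, map_sum]
    exact Finset.sum_congr rfl fun j _ => by rw [secTopEquiv_smul, hv]
  have hinv : c.hom.app ⊤ (c.inv.app ⊤ (RefHull.ofHom φ ⊤)) = RefHull.ofHom φ ⊤ :=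
    congr($(congrArg (fun z => Scheme.Modules.Hom.app z ⊤) c.inv_hom_id) (RefHull.ofHom φ ⊤))
  rw [← hinv, ← hs, hs', map_sum]
  refine (map_sum (c.hom.app ⊤).hom _ _).trans ?_
  refine Finset.sum_congr rfl fun j _ => ?_
  rw [OmegaSh.pullSect_smul, app_scal hsq ⊤ (a j)]
  refine (c.hom.app_smul _ _).trans ?_
  exact congrArg (scal (X ↘ Spec (CommRingCat.of k)) ⊤ (t (a j)) • ·) (hc (v j))

/-- The kernels of the maps between fibres of two coherent families form a bounded set. -/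
theorem bdd_homKer_base {R : Type u} [CommRing R] [Algebra k R] [Algebra.FiniteType k R]
    {B C : (PR k X R).Modules} (hB : Coh.IsCoh B) (hC : Coh.IsCoh C) :
    Bdd k X fun L => ∃ (t : R →ₐ[k] k) (φ : (fib X t).obj B ⟶ (fib X t).obj C), Nonempty (kernel φ ≅ L) := by
  refine bdd_induction _ fun p hp => ?_
  haveI := hp
  let π := Ideal.Quotient.mkₐ k p
  haveI : IsNoetherianRing (R ⧸ p) := isNoetherianRing_base (k := k) (R := R ⧸ p)
  haveI : LocallyOfFiniteType (PR k X (R ⧸ p) ↘ Spec (CommRingCat.of (R ⧸ p))) :=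
    (isProper_over X).toLocallyOfFiniteType
  let B₁ := (Scheme.Modules.pullback (mapP X π)).obj B
  let C₁ := (Scheme.Modules.pullback (mapP X π)).obj C
  have hB₁ : Coh.IsCoh B₁ := H17.ConsProp.isCoh_pullback _ hB
  have hC₁ : Coh.IsCoh C₁ := H17.ConsProp.isCoh_pullback _ hC
  obtain ⟨f₁, hf₁, hbc⟩ := exists_homBC_locus (D := R ⧸ p) B₁ C₁ hB₁ hC₁
  obtain ⟨f₂, hf₂, hfl⟩ := exists_flat_locus X _ (H29Ref.isCoh_homSh B₁ C₁ hB₁ hC₁)
  let f := f₁ * f₂
  have hf : f ≠ 0 := mul_ne_zero hf₁ hf₂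
  haveI : IsDomain (Localization.Away f) :=
    IsLocalization.isDomain_localization (powers_le_nonZeroDivisors_of_noZeroDivisors hf)
  haveI : Algebra.FiniteType k (Localization.Away f) :=
    Algebra.FiniteType.trans (inferInstance : Algebra.FiniteType k (R ⧸ p))
      (IsLocalization.finiteType_of_monoid_fg (Submonoid.powers f) _)
  let ψ : (R ⧸ p) →ₐ[k] Localization.Away f := IsScalarTower.toAlgHom k (R ⧸ p) (Localization.Away f)
  let B₂ := (Scheme.Modules.pullback (mapP X ψ)).obj B₁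
  let C₂ := (Scheme.Modules.pullback (mapP X ψ)).obj C₁
  have hunit : IsUnit (algebraMap (R ⧸ p) (Localization.Away f) f) :=
    IsLocalization.Away.algebraMap_isUnit f
  rw [map_mul, IsUnit.mul_iff] at hunit
  obtain ⟨c, -⟩ := hbc (Localization.Away f) (mapP X ψ) (isPullback_mapP X ψ) hunit.1
  have hflat : FlatMod.IsFlatOver (toR k X (Localization.Away f)) (RefHull.homSh B₂ C₂) := fun z =>
    H16Derived.BaseChange.isFlatOverAt_of_iso c (isFlatOver_mapP ψ (fun z => hfl _ fun hmem => by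
      have h1 : toR k X (R ⧸ p) (mapP X ψ z) = sp ψ (toR k X _ z) := by
        rw [← Scheme.Hom.comp_apply, mapP_toR, Scheme.Hom.comp_apply]
      rw [h1] at hmem
      exact (toR k X (Localization.Away f) z).isPrime.ne_top
        (Ideal.eq_top_of_isUnit_mem _ hmem hunit.2)) z)
  have hB₂ : Coh.IsCoh B₂ := H17.ConsProp.isCoh_pullback _ hB₁
  have hC₂ : Coh.IsCoh C₂ := H17.ConsProp.isCoh_pullback _ hC₁
  obtain ⟨g, hg, n, v, hv⟩ := exists_spanning B₂ C₂ hB₂ hC₂ hflat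
  obtain ⟨m, g', hg'⟩ := IsLocalization.Away.surj f g
  obtain ⟨f', hf'⟩ := Ideal.Quotient.mk_surjective (f * g')
  refine ⟨f', fun hmem => ?_, ?_⟩
  · have h0 : f * g' = 0 := hf' ▸ (Ideal.Quotient.eq_zero_iff_mem.2 hmem)
    rw [(mul_eq_zero.1 h0).resolve_left hf, map_zero] at hg'
    exact hg ((mul_eq_zero.1 hg').resolve_right (pow_ne_zero _ (by
      rw [map_mul]; exact (hunit.1.mul hunit.2).ne_zero)))
  refine (bdd_kernel_comb hB₂ hC₂ v).mono fun L ⟨t, htp, htf, φ, ⟨e⟩⟩ => ?_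
  obtain ⟨t, rfl⟩ := exists_quot_point p t htp
  have htf' : t (f * g') ≠ 0 := hf' ▸ htf
  rw [map_mul, mul_ne_zero_iff] at htf'
  obtain ⟨t, rfl⟩ := exists_away_point f t htf'.1
  have htg : t g ≠ 0 := fun h0 => htf'.2 (by
    have := congrArg t hg'
    rw [map_mul, h0, zero_mul] at this
    exact this.symm)
  let θ : Scheme.Modules.pullback (mapP X π) ⋙ Scheme.Modules.pullback (mapP X ψ) ⋙ fib X t ≅
      fib X ((t.comp ψ).comp π) :=
    Functor.isoWhiskerLeft _ (fibMapP X ψ t) ≪≫ fibMapP X π (t.comp ψ)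
  obtain ⟨c', hc'⟩ := hv t htg ((θ.app B).hom ≫ φ ≫ (θ.app C).inv)
  exact ⟨_, ⟨t, c', ⟨Iso.refl _⟩⟩, ⟨kernel.mapIso _ φ (θ.app B) (θ.app C)
    (by rw [← hc', Category.assoc, Category.assoc, Iso.inv_hom_id, Category.comp_id]) ≪≫ e⟩⟩

/-- The kernels of the maps between members of two bounded sets form a bounded set. -/
theorem Bdd.homKer {P Q : X.Modules → Prop} (hP : Bdd k X P) (hQ : Bdd k X Q) :
    Bdd k X fun L => ∃ (M N : X.Modules) (φ : M ⟶ N), P M ∧ Q N ∧ Nonempty (kernel φ ≅ L) := by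
  obtain ⟨ι, hι, B, F, hF, hm⟩ := hP
  obtain ⟨κ, hκ, B', G, hG, hn⟩ := hQ
  haveI := hι
  haveI := hκ
  have hbase : ∀ p : ι × κ, Bdd k X fun L => ∃ (t : (B p.1).R →ₐ[k] k) (t' : (B' p.2).R →ₐ[k] k)
      (φ : (fib X t).obj (F p.1) ⟶ (fib X t').obj (G p.2)), Nonempty (kernel φ ≅ L) := fun p => by
    let l : (B p.1).R →ₐ[k] TensorProduct k (B p.1).R (B' p.2).R := Algebra.TensorProduct.includeLeft
    let r : (B' p.2).R →ₐ[k] TensorProduct k (B p.1).R (B' p.2).R := Algebra.TensorProduct.includeRight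
    haveI : Algebra.FiniteType k (TensorProduct k (B p.1).R (B' p.2).R) :=
      Algebra.FiniteType.trans (inferInstance : Algebra.FiniteType k (B p.1).R) inferInstance
    refine (bdd_homKer_base (H17.ConsProp.isCoh_pullback (mapP X l) (hF p.1))
      (H17.ConsProp.isCoh_pullback (mapP X r) (hG p.2))).mono fun L ⟨t, t', φ, ⟨e⟩⟩ => ?_
    let T : TensorProduct k (B p.1).R (B' p.2).R →ₐ[k] k := Algebra.TensorProduct.lift t t' fun _ _ => mul_comm _ _
    have h1 : T.comp l = t := AlgHom.ext fun a => by simp [T, l]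
    have h2 : T.comp r = t' := AlgHom.ext fun a => by simp [T, r]
    let eB := (fibMapP X l T).app (F p.1) ≪≫ eqToIso (by rw [h1])
    let eC := (fibMapP X r T).app (G p.2) ≪≫ eqToIso (by rw [h2])
    exact ⟨_, ⟨T, eB.hom ≫ φ ≫ eC.inv, ⟨Iso.refl _⟩⟩, ⟨kernel.mapIso _ φ eB eC
      (by rw [Category.assoc, Category.assoc, Iso.inv_hom_id, Category.comp_id]) ≪≫ e⟩⟩
  have hbase' := hbase
  haveI : Finite (ι × κ) := inferInstance
  refine (Bdd.iUnion hbase').subset fun L ⟨M, N, φ, hM, hN, ⟨e⟩⟩ => ?_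
  obtain ⟨i, t, ⟨eM⟩⟩ := hm M hM
  obtain ⟨j, t', ⟨eN⟩⟩ := hn N hN
  exact ⟨⟨i, j⟩, t, t', eM.hom ≫ φ ≫ eN.inv, ⟨kernel.mapIso _ φ eM eN
    (by rw [Category.assoc, Category.assoc, Iso.inv_hom_id, Category.comp_id]) ≪≫ e⟩⟩

end Groth.Agent.H12Pic.Bdd
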