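import Groth.Agent.H10Coh.SheafHom.Adj
import Groth.Agent.H16Derived.KFlat.SheafTensor

/-!
# The sheaf Hom turns cokernels into kernels
-/

set_option autoImplicit false
set_option linter.style.haveILetI false
universe u

open CategoryTheory CategoryTheory.Limits AlgebraicGeometry

noncomputable section

namespace Groth.Agent.H12Pic.Bdd

open Groth.Agent.H10Coh.SheafHom Groth.Agent.H16Derived.KFlat.Stalk

section

variable {C D : Type*} [Category C] [Category D] [HasZeroMorphisms C] [HasZeroMorphisms D]

theorem exists_desc_flip {E : Type*} [Category E] (T : C ⥤ E ⥤ D) (N : E) [(T.flip.obj N).PreservesZeroMorphisms]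
    [PreservesFiniteColimits (T.flip.obj N)] {B A : C} (v : B ⟶ A) [HasCokernel v] {W : D}
    (φ : (T.obj A).obj N ⟶ W) (h : (T.map v).app N ≫ φ = 0) :
    ∃ l : (T.obj (cokernel v)).obj N ⟶ W, (T.map (cokernel.π v)).app N ≫ l = φ := by
  have hc := CokernelCofork.mapIsColimit _ (cokernelIsCokernel v) (T.flip.obj N)
  let l := CokernelCofork.IsColimit.desc' hc φ h
  exact ⟨l.1, l.2⟩

theorem epi_flip {E : Type*} [Category E] (T : C ⥤ E ⥤ D) (N : E) [(T.flip.obj N).PreservesZeroMorphisms]
    [PreservesFiniteColimits (T.flip.obj N)] {B A : C} (v : B ⟶ A) [HasCokernel v] :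
    Epi ((T.map (cokernel.π v)).app N) := by
  have hc := CokernelCofork.mapIsColimit _ (cokernelIsCokernel v) (T.flip.obj N)
  exact ⟨fun _ _ h => Cofork.IsColimit.hom_ext hc h⟩

end

variable {X : Scheme.{u}} {A B : X.Modules}

instance preservesFiniteColimits_tensor_flip (N : X.Modules) :
    PreservesFiniteColimits ((DCoh.tensorBi (X := X)).flip.obj N) :=
  PreservesColimitsOfSize.preservesFiniteColimits.{u, u} _

instance preservesZero_tensor_flip (N : X.Modules) :
    ((DCoh.tensorBi (X := X)).flip.obj N).PreservesZeroMorphisms where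
  map_zero P Q := by
    show ((DCoh.tensorBi (X := X)).map (0 : P ⟶ Q)).app N = 0
    rw [Functor.map_zero, zero_app]

/-- Precomposition on sheaf Homs. -/
def homShPre (v : B ⟶ A) (G : X.Modules) : RefHull.homSh A G ⟶ RefHull.homSh B G :=
  curry (((DCoh.tensorBi (X := X)).map v).app (RefHull.homSh A G) ≫ uncurry (𝟙 _))

theorem uncurry_natural {F N N' G : X.Modules} (g : N' ⟶ N) (ψ : N ⟶ RefHull.homSh F G) :
    uncurry (g ≫ ψ) = ((DCoh.tensorBi (X := X)).obj F).map g ≫ uncurry ψ :=
  (homEquiv F N' G).symm_apply_eq.2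
    (((congrArg (g ≫ ·) ((homEquiv F N G).apply_symm_apply ψ)).symm).trans (curry_natural g (uncurry ψ)).symm)

theorem comp_homShPre (v : B ⟶ A) {N G : X.Modules} (g : N ⟶ RefHull.homSh A G) :
    g ≫ homShPre v G = curry (((DCoh.tensorBi (X := X)).map v).app N ≫ uncurry g) := by
  unfold homShPre
  rw [← curry_natural]
  refine congrArg curry ?_
  rw [← Category.assoc, ((DCoh.tensorBi (X := X)).map v).naturality g, Category.assoc]
  exact congrArg (((DCoh.tensorBi (X := X)).map v).app N ≫ ·)
    ((uncurry_natural g (𝟙 _)).symm.trans (congrArg uncurry (Category.comp_id g)))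

theorem uncurry_curry {F N G : X.Modules} (φ : tensor F N ⟶ G) : uncurry (curry φ) = φ :=
  (homEquiv F N G).left_inv φ

theorem curry_uncurry {F N G : X.Modules} (ψ : N ⟶ RefHull.homSh F G) : curry (uncurry ψ) = ψ :=
  (homEquiv F N G).right_inv ψ

theorem uncurry_homShPre (v : B ⟶ A) (G : X.Modules) :
    uncurry (homShPre v G) = ((DCoh.tensorBi (X := X)).map v).app (RefHull.homSh A G) ≫ uncurry (𝟙 _) :=
  uncurry_curry _

theorem map_app_comp {C : X.Modules} (v : B ⟶ A) (w : A ⟶ C) (N : X.Modules) :
    ((DCoh.tensorBi (X := X)).map v).app N ≫ ((DCoh.tensorBi (X := X)).map w).app N =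
      ((DCoh.tensorBi (X := X)).map (v ≫ w)).app N := by
  rw [Functor.map_comp, NatTrans.comp_app]

theorem curry_zero {F N G : X.Modules} : curry (0 : tensor F N ⟶ G) = 0 :=
  (congrArg curry (by rw [Functor.map_zero, zero_comp] :
      (0 : tensor F N ⟶ G) = ((DCoh.tensorBi (X := X)).obj F).map (0 : N ⟶ N) ≫ (0 : tensor F N ⟶ G))).trans
    ((curry_natural (0 : N ⟶ N) (0 : tensor F N ⟶ G)).trans zero_comp)

/-- Maps out of a cokernel form the kernel of precomposition. -/
theorem nonempty_kernel_homShPre (v : B ⟶ A) (G : X.Modules) :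
    Nonempty (kernel (homShPre v G) ≅ RefHull.homSh (cokernel v) G) := by
  have hzero : homShPre (cokernel.π v) G ≫ homShPre v G = 0 := by
    rw [comp_homShPre]
    refine Eq.trans (congrArg curry ?_) curry_zero
    rw [uncurry_homShPre, ← Category.assoc, map_app_comp, cokernel.condition, Functor.map_zero,
      zero_app, zero_comp]
  have hmono : Mono (homShPre (cokernel.π v) G) := by
    refine ⟨fun {N} a b h => ?_⟩
    rw [comp_homShPre, comp_homShPre] at h
    have h' : ((DCoh.tensorBi (X := X)).map (cokernel.π v)).app N ≫ uncurry a =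
        ((DCoh.tensorBi (X := X)).map (cokernel.π v)).app N ≫ uncurry b := by
      rw [← uncurry_curry (_ ≫ uncurry a), h, uncurry_curry]
    haveI := epi_flip (DCoh.tensorBi (X := X)) N v
    have h'' : uncurry a = uncurry b := (cancel_epi _).1 h'
    rw [← curry_uncurry a, ← curry_uncurry b, h'']
  have hlim : IsLimit (KernelFork.ofι (homShPre (cokernel.π v) G) hzero) :=
    KernelFork.IsLimit.ofι' _ _ fun {N} g hg => by
      rw [comp_homShPre] at hg
      have h0 : ((DCoh.tensorBi (X := X)).map v).app N ≫ uncurry g = 0 := by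
        rw [← uncurry_curry (_ ≫ uncurry g), hg.trans curry_zero.symm, uncurry_curry]
      let hl := exists_desc_flip (DCoh.tensorBi (X := X)) N v (uncurry g) h0
      refine ⟨curry hl.choose, ?_⟩
      rw [comp_homShPre, uncurry_curry, hl.choose_spec, curry_uncurry]
  exact ⟨(limit.isLimit _).conePointUniqueUpToIso hlim⟩

end Groth.Agent.H12Pic.Bdd
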