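import Groth.Agent.H12Pic.Bdd.HomKer
import Groth.Agent.H11Ample.Basic
import Groth.Agent.H10Coh.TensorTilde
import Groth.Agent.LeadDev.Basic

/-!
# Operations on bounded sets
-/

set_option autoImplicit false
set_option linter.style.haveILetI false
set_option linter.unusedSectionVars false
universe u

open CategoryTheory CategoryTheory.Limits AlgebraicGeometry
open Groth.Agent.H25Theta (pb pT pC pI tI)

noncomputable section

namespace Groth.Agent.H12Pic.Bdd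

variable {k : Type u} [Field k] {X : Scheme.{u}} [X.Over (Spec (CommRingCat.of k))]
  [IsProper (X ↘ Spec (CommRingCat.of k))]

/-- A single coherent module is bounded. -/
theorem bdd_single {M : X.Modules} (hM : Coh.IsCoh M) : Bdd k X fun L => Nonempty (M ≅ L) :=
  (bdd_fibres (R := k) (H17.ConsProp.isCoh_pullback (prR k X k) hM)).mono fun _ ⟨e⟩ =>
    ⟨_, ⟨AlgHom.id k k, ⟨Iso.refl _⟩⟩, ⟨(fibConst X (AlgHom.id k k)).app M ≪≫ e⟩⟩

/-- Tensor products with a fixed coherent module. -/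
theorem Bdd.tensor {Q : X.Modules → Prop} (hQ : Bdd k X Q) {C : X.Modules} (hC : Coh.IsCoh C) :
    Bdd k X fun L => ∃ M, Q M ∧ Nonempty (CohB1.tensorMod M C ≅ L) := by
  obtain ⟨ι, hι, B, F, hF, hm⟩ := hQ
  refine ⟨ι, hι, B, fun i => CohB1.tensorMod (F i) (pb (prR k X (B i).R) C),
    fun i => H10Coh.TT.isCoh_tensorMod (hF i) (H17.ConsProp.isCoh_pullback _ hC), fun L ⟨M, hM, ⟨e⟩⟩ => ?_⟩
  obtain ⟨i, t, ⟨e'⟩⟩ := hm M hM
  exact ⟨i, t, ⟨pT (slice X t) _ _ ≪≫ tI e' ((fibConst X t).app C) ≪≫ e⟩⟩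

/-- Sums of members of two bounded sets. -/
theorem Bdd.biprod {P Q : X.Modules → Prop} (hP : Bdd k X P) (hQ : Bdd k X Q) :
    Bdd k X fun L => ∃ (M N : X.Modules), P M ∧ Q N ∧ Nonempty (M ⊞ N ≅ L) := by
  obtain ⟨ι, hι, B, F, hF, hm⟩ := hP
  obtain ⟨κ, hκ, B', G, hG, hn⟩ := hQ
  haveI := hι
  haveI := hκ
  have hbase : ∀ p : ι × κ, Bdd k X fun L => ∃ (t : (B p.1).R →ₐ[k] k) (t' : (B' p.2).R →ₐ[k] k),
      Nonempty ((fib X t).obj (F p.1) ⊞ (fib X t').obj (G p.2) ≅ L) := fun p => by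
    let l : (B p.1).R →ₐ[k] TensorProduct k (B p.1).R (B' p.2).R := Algebra.TensorProduct.includeLeft
    let r : (B' p.2).R →ₐ[k] TensorProduct k (B p.1).R (B' p.2).R := Algebra.TensorProduct.includeRight
    haveI : Algebra.FiniteType k (TensorProduct k (B p.1).R (B' p.2).R) :=
      Algebra.FiniteType.trans (inferInstance : Algebra.FiniteType k (B p.1).R) inferInstance
    refine (bdd_fibres (LeadDev.isCoh_biprod (H17.ConsProp.isCoh_pullback (mapP X l) (hF p.1))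
      (H17.ConsProp.isCoh_pullback (mapP X r) (hG p.2)))).mono fun L ⟨t, t', ⟨e⟩⟩ => ?_
    let T : TensorProduct k (B p.1).R (B' p.2).R →ₐ[k] k := Algebra.TensorProduct.lift t t' fun _ _ => mul_comm _ _
    have h1 : T.comp l = t := AlgHom.ext fun a => by simp [T, l]
    have h2 : T.comp r = t' := AlgHom.ext fun a => by simp [T, r]
    let eB := (fibMapP X l T).app (F p.1) ≪≫ eqToIso (by rw [h1])
    let eC := (fibMapP X r T).app (G p.2) ≪≫ eqToIso (by rw [h2])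
    haveI : PreservesBinaryBiproducts (fib X T) := preservesBinaryBiproducts_of_preservesBiproducts _
    exact ⟨_, ⟨T, ⟨Iso.refl _⟩⟩, ⟨(fib X T).mapBiprod _ _ ≪≫ biprod.mapIso eB eC ≪≫ e⟩⟩
  haveI : Finite (ι × κ) := inferInstance
  refine (Bdd.iUnion hbase).subset fun L ⟨M, N, hM, hN, ⟨e⟩⟩ => ?_
  obtain ⟨i, t, ⟨eM⟩⟩ := hm M hM
  obtain ⟨j, t', ⟨eN⟩⟩ := hn N hN
  exact ⟨⟨i, j⟩, t, t', ⟨biprod.mapIso eM eN ≪≫ e⟩⟩

/-- The kernels of the maps between two fixed coherent modules. -/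
theorem bdd_homKer_fixed {M N : X.Modules} (hM : Coh.IsCoh M) (hN : Coh.IsCoh N) :
    Bdd k X fun L => ∃ φ : M ⟶ N, Nonempty (kernel φ ≅ L) :=
  ((bdd_single hM).homKer (bdd_single hN)).subset fun _ ⟨φ, h⟩ => ⟨M, N, φ, ⟨Iso.refl _⟩, ⟨Iso.refl _⟩, h⟩

end Groth.Agent.H12Pic.Bdd
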