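import Groth.Agent.H12Pic.Bdd.Frame
import Groth.Agent.H05EGA4.GenFlat

/-!
# Noetherian induction on the rational points of a base; generic flatness
-/

set_option autoImplicit false
set_option linter.style.haveILetI false
set_option linter.unusedSectionVars false
universe u

open CategoryTheory CategoryTheory.Limits AlgebraicGeometry

noncomputable section

namespace Groth.Agent.H12Pic.Bdd

variable {k : Type u} [Field k] {X : Scheme.{u}} [X.Over (Spec (CommRingCat.of k))]
variable {R : Type u} [CommRing R] [Algebra k R] [Algebra.FiniteType k R]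

/-- To bound a set indexed by the points of a base it suffices to do so generically on every prime. -/
theorem bdd_induction (Q : (R →ₐ[k] k) → X.Modules → Prop)
    (h : ∀ p : Ideal R, p.IsPrime → ∃ f ∉ p,
      Bdd k X fun L => ∃ t : R →ₐ[k] k, p ≤ RingHom.ker t.toRingHom ∧ t f ≠ 0 ∧ Q t L) :
    Bdd k X fun L => ∃ t, Q t L := by
  haveI : IsNoetherianRing R := Algebra.FiniteType.isNoetherianRing k R
  suffices H : ∀ J : Ideal R, Bdd k X fun L => ∃ t : R →ₐ[k] k, J ≤ RingHom.ker t.toRingHom ∧ Q t L from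
    (H ⊥).subset fun L ⟨t, ht⟩ => ⟨t, bot_le, ht⟩
  intro J
  induction J using WellFoundedGT.induction with
  | _ J ih =>
    by_cases hJ : J = ⊤
    · exact bdd_false.subset fun L ⟨t, ht, _⟩ => RingHom.ker_ne_top t.toRingHom (top_le_iff.1 (hJ ▸ ht))
    by_cases hp : J.IsPrime
    · obtain ⟨f, hf, hb⟩ := h J hp
      refine (hb.union (ih (J ⊔ Ideal.span {f}) ?_)).subset fun L ⟨t, ht, hQ⟩ => ?_
      · exact lt_of_le_of_ne le_sup_left fun he =>
          hf (he ▸ Ideal.mem_sup_right (Ideal.subset_span rfl))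
      · by_cases htf : t f = 0
        · exact Or.inr ⟨t, sup_le ht ((Ideal.span_singleton_le_iff_mem _).2 htf), hQ⟩
        · exact Or.inl ⟨t, ht, htf, hQ⟩
    · obtain ⟨a, ha, b, hb, hab⟩ := (Ideal.not_isPrime_iff.1 hp).resolve_left hJ
      have lt : ∀ c, c ∉ J → J < J ⊔ Ideal.span {c} := fun c hc =>
        lt_of_le_of_ne le_sup_left fun he => hc (he ▸ Ideal.mem_sup_right (Ideal.subset_span rfl))
      refine ((ih _ (lt a ha)).union (ih _ (lt b hb))).subset fun L ⟨t, ht, hQ⟩ => ?_
      have h0 : t a * t b = 0 := (map_mul t a b).symm.trans (ht hab)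
      rcases mul_eq_zero.1 h0 with h1 | h1
      · exact Or.inl ⟨t, sup_le ht ((Ideal.span_singleton_le_iff_mem _).2 h1), hQ⟩
      · exact Or.inr ⟨t, sup_le ht ((Ideal.span_singleton_le_iff_mem _).2 h1), hQ⟩

/-- A point killing `p` comes from the quotient. -/
theorem exists_quot_point (p : Ideal R) (t : R →ₐ[k] k) (ht : p ≤ RingHom.ker t.toRingHom) :
    ∃ t' : (R ⧸ p) →ₐ[k] k, t'.comp (Ideal.Quotient.mkₐ k p) = t :=
  ⟨Ideal.Quotient.liftₐ p t fun a ha => ht ha, AlgHom.ext fun _ => rfl⟩

/-- A point not killing `f` lifts to the localisation at `f`. -/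
theorem exists_away_point (f : R) (t : R →ₐ[k] k) (ht : t f ≠ 0) :
    ∃ t' : Localization.Away f →ₐ[k] k, t'.comp (IsScalarTower.toAlgHom k R (Localization.Away f)) = t := by
  have hu : IsUnit (t.toRingHom f) := isUnit_iff_ne_zero.2 ht
  let l : Localization.Away f →+* k :=
    IsLocalization.Away.lift (S := Localization.Away f) f (g := t.toRingHom) hu
  refine ⟨⟨l, fun c => ?_⟩, AlgHom.ext fun a => IsLocalization.Away.lift_eq f hu a⟩
  rw [IsScalarTower.algebraMap_apply k R (Localization.Away f)]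
  exact (IsLocalization.Away.lift_eq f hu _).trans (t.commutes c)

variable [IsProper (X ↘ Spec (CommRingCat.of k))]

variable (X) in
/-- A coherent module over a domain is flat over it above a non-empty principal open. -/
theorem exists_flat_locus [IsDomain R] (G : (PR k X R).Modules) (hG : Coh.IsCoh G) :
    ∃ f : R, f ≠ 0 ∧ ∀ x, f ∉ (toR k X R x).asIdeal → FlatMod.IsFlatOverAt (toR k X R) G x := by
  haveI : IsNoetherianRing R := Algebra.FiniteType.isNoetherianRing k R
  obtain ⟨V, hη, hV⟩ := H05EGA4.GenFlat.exists_open_isFlatOverAt (toR k X R) (H10Coh.isFP_of_isCoh G hG)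
  obtain ⟨_, ⟨f, rfl⟩, hfm, hfs⟩ :=
    PrimeSpectrum.isTopologicalBasis_basic_opens.exists_subset_of_mem_open hη V.2
  exact ⟨f, fun h => hfm (h ▸ zero_mem _), fun x hx => hV x (hfs hx)⟩

/-- Flatness above a principal open, read at the points of a slice. -/
theorem flat_at_slice {G : (PR k X R).Modules} {f : R}
    (hf : ∀ x, f ∉ (toR k X R x).asIdeal → FlatMod.IsFlatOverAt (toR k X R) G x) (t : R →ₐ[k] k) (ht : t f ≠ 0)
    (x : X) : FlatMod.IsFlatOverAt (toR k X R) G (slice X t x) :=
  hf _ fun h => ht (by rw [toR_slice_apply X t x] at h; exact h)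

end Groth.Agent.H12Pic.Bdd
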