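import Groth.Agent.H12Pic.Bdd.Presentation
import Groth.Agent.H12Pic.Bdd.Ops
import Groth.Agent.H12Pic.Bdd.Conv
import Groth.Agent.H12Pic.Bdd.HomLeft
import Groth.Agent.H10Inj.IdealPow
import Groth.Agent.H17.FLI.Adjunction
import Groth.Agent.H24GE.PushLim
import Groth.Agent.H11Ample.UnitIso
import Groth.Agent.LeadProper.Supp
import Groth.Agent.H16Derived.MVPush.Support

/-!
# Numerically trivial modules on a proper scheme form a bounded set

Noetherian induction on the support of the coherent module tensored with them, by a Chow cover.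
-/

set_option autoImplicit false
set_option linter.style.haveILetI false
set_option linter.unusedSectionVars false
universe u

open CategoryTheory CategoryTheory.Limits AlgebraicGeometry Opposite TopologicalSpace
open Groth.Agent.H25Theta (pb pT pC pI tI)

noncomputable section

namespace Groth.Agent.H12Pic.Bdd

open Groth.Agent.H12Pic.NumTriv

variable {k : Type u} [Field k] [IsAlgClosed k] {X : Scheme.{u}} [X.Over (Spec (CommRingCat.of k))]
  [IsProper (X ↘ Spec (CommRingCat.of k))]

variable (k) in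
/-- The products of `M` with numerically trivial modules form a bounded set. -/
def Good (M : X.Modules) : Prop :=
  Bdd k X fun L => ∃ N, NT k N ∧ Nonempty (CohB1.tensorMod N M ≅ L)

theorem tensorL_isEquivalence {N : X.Modules} (hN : NT k N) :
    ((DCoh.tensorBi (X := X)).obj N).IsEquivalence := by
  obtain ⟨L', -, ⟨e⟩⟩ := hN.exists_inverse k
  exact H15Site.Invertible.isEquivalence_of_iso_unit (O := X.sheaf) (L := N) (N := L') e

theorem good_of_iso {M M' : X.Modules} (h : Good k M) (e : M ≅ M') : Good k M' :=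
  h.mono fun L ⟨N, hN, ⟨e'⟩⟩ => ⟨L, ⟨N, hN, ⟨tI (Iso.refl N) e ≪≫ e'⟩⟩, ⟨Iso.refl L⟩⟩

theorem good_zero {M : X.Modules} (hM : Coh.IsCoh M) (h : IsZero M) : Good k M :=
  (bdd_single hM).mono fun L ⟨N, _, ⟨e⟩⟩ =>
    ⟨M, ⟨Iso.refl M⟩, ⟨h.iso (((DCoh.tensorBi (X := X)).obj N).map_isZero h) ≪≫ e⟩⟩

/-- A kernel of a map between a sum of good modules and a good module is good. -/
theorem good_of_kernel {M B Q C : X.Modules} (hB : Good k B) (hQ : Good k Q) (hC : Good k C) (ψ : B ⊞ Q ⟶ C)
    (e : kernel ψ ≅ M) : Good k M :=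
  ((hB.biprod hQ).homKer hC).mono fun L ⟨N, hN, ⟨eL⟩⟩ => by
    haveI := tensorL_isEquivalence hN
    let F := (DCoh.tensorBi (X := X)).obj N
    haveI : PreservesBinaryBiproducts F := preservesBinaryBiproducts_of_preservesBiproducts _
    refine ⟨_, ⟨F.obj B ⊞ F.obj Q, F.obj C, (F.mapBiprod B Q).inv ≫ F.map ψ,
      ⟨_, _, ⟨N, hN, ⟨Iso.refl _⟩⟩, ⟨N, hN, ⟨Iso.refl _⟩⟩, ⟨Iso.refl _⟩⟩, ⟨N, hN, ⟨Iso.refl _⟩⟩, ⟨Iso.refl _⟩⟩,
      ⟨kernelIsIsoComp _ _ ≪≫ (PreservesKernel.iso F ψ).symm ≪≫ F.mapIso e ≪≫ eL⟩⟩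

/-- A direct image from a scheme with an ample module is good. -/
theorem good_push {W : Scheme.{u}} (g : W ⟶ X) [IsProper g] {A₀ : W.Modules} (hA₀ : CohB1.IsAmple A₀)
    {M : W.Modules} (hM : Coh.IsCoh M) : Good k ((Scheme.Modules.pushforward g).obj M) := by
  letI : W.Over (Spec (CommRingCat.of k)) := ⟨g ≫ (X ↘ Spec (CommRingCat.of k))⟩
  haveI : IsProper (W ↘ Spec (CommRingCat.of k)) :=
    inferInstanceAs (IsProper (g ≫ (X ↘ Spec (CommRingCat.of k))))
  haveI : IsLocallyNoetherian X := LocallyOfFiniteType.isLocallyNoetherian (X ↘ Spec (CommRingCat.of k))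
  haveI : IsLocallyNoetherian W := LocallyOfFiniteType.isLocallyNoetherian (W ↘ Spec (CommRingCat.of k))
  obtain ⟨A, B, hA, hB, hpres⟩ := exists_presentation_nt k W hA₀
  refine (bdd_homKer_fixed (H24GE.isCoh_pushforward g (H29Ref.isCoh_homSh A M hA hM))
    (H24GE.isCoh_pushforward g (H29Ref.isCoh_homSh B M hB hM))).mono fun L ⟨N, hN, ⟨eL⟩⟩ => ?_
  have hgN : NT k ((Scheme.Modules.pullback g).obj N) := NT.pullback k g rfl hN
  obtain ⟨L', hL', ⟨e'⟩⟩ := hgN.exists_inverse k
  obtain ⟨v, ⟨ev⟩⟩ := hpres L' hL'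
  let gN := (Scheme.Modules.pullback g).obj N
  have hinv : PicF.IsInvertible (cokernel v) := H11Tilde.isInvertible_of_iso ev.symm hL'.inv
  obtain ⟨e₁⟩ := H17.FLI.nonempty_homSh_tensor_iso hinv (CohB1.tensorMod gN M)
  let e₂ : CohB1.tensorMod (cokernel v) (CohB1.tensorMod gN M) ≅ M :=
    (H11Ample.tensorAssocIso (cokernel v) gN M).symm ≪≫
      tI (tI ev (Iso.refl gN) ≪≫ H10Coh.Tw.commIso L' gN ≪≫ e') (Iso.refl M) ≪≫ H10Coh.Tw.leftUnitIso M
  haveI := H10Coh.SheafHom.hasSheafHom (cokernel v)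
  let e₃ : RefHull.homSh (cokernel v) M ≅ CohB1.tensorMod gN M :=
    (H10Coh.SheafHom.homShIso _ _).symm ≪≫ (DCoh.sheafHom (cokernel v)).mapIso e₂.symm ≪≫
      H10Coh.SheafHom.homShIso _ _ ≪≫ e₁
  obtain ⟨e₄⟩ := nonempty_kernel_homShPre v M
  obtain ⟨e₅⟩ := H10Coh.Tw.nonempty_push_tensor_iso g M hN.inv
  let P := Scheme.Modules.pushforward g
  haveI : P.IsRightAdjoint := (Scheme.Modules.pullbackPushforwardAdjunction g).isRightAdjoint
  haveI : P.Additive := (Scheme.Modules.pullbackPushforwardAdjunction g).right_adjoint_additive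
  exact ⟨_, ⟨P.map (homShPre v M), ⟨Iso.refl _⟩⟩, ⟨(PreservesKernel.iso P (homShPre v M)).symm ≪≫
    P.mapIso (e₄ ≪≫ e₃ ≪≫ H10Coh.Tw.commIso gN M) ≪≫ e₅.symm ≪≫ H10Coh.Tw.commIso _ N ≪≫ eL⟩⟩

/-- Sections of the unit are bijective over an affine open above which the map is an isomorphism. -/
theorem bijective_unit_app {W Z : Scheme.{u}} (π : W ⟶ Z) (N : Z.Modules) (hN : Coh.IsQCoh N) (U : Z.Opens)
    [IsIso (π ∣_ U)] (V : Z.Opens) (hV : IsAffineOpen V) (hVU : V ≤ U) :
    Function.Bijective (((Scheme.Modules.pullbackPushforwardAdjunction π).unit.app N).app V) := by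
  let V' : U.toScheme.Opens := U.ι ⁻¹ᵁ V
  have hVV' : U.ι ''ᵁ V' = V := by
    rw [Scheme.Hom.image_preimage_eq_opensRange_inf, Scheme.Opens.opensRange_ι]
    exact inf_eq_right.2 hVU
  have hiso : IsIso (π.app V) := by
    have h1 : IsIso ((π ∣_ U).app V') := inferInstance
    rw [morphismRestrict_app] at h1
    have h2 : IsIso (π.app (U.ι ''ᵁ V')) :=
      @IsIso.of_isIso_comp_right _ _ _ _ _ (π.app (U.ι ''ᵁ V'))
        (W.presheaf.map (eqToHom (image_morphismRestrict_preimage π U V')).op) inferInstance h1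
    exact hVV' ▸ h2
  have hV' : IsAffineOpen (π ⁻¹ᵁ V) := by
    have hVa : IsAffineOpen V' :=
      hV.preimage_of_isOpenImmersion U.ι (by rw [Scheme.Opens.opensRange_ι]; exact hVU)
    have h1 : IsAffineOpen ((π ∣_ U) ⁻¹ᵁ V') := hVa.preimage (π ∣_ U)
    have h2 := h1.image_of_isOpenImmersion (π ⁻¹ᵁ U).ι
    rwa [image_morphismRestrict_preimage, hVV'] at h2
  let h := le_refl (π ⁻¹ᵁ V)
  letI := (π.appLE V (π ⁻¹ᵁ V) h).hom.toAlgebra
  letI := Module.compHom Γ((Scheme.Modules.pullback π).obj N, π ⁻¹ᵁ V) (π.appLE V (π ⁻¹ᵁ V) h).hom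
  haveI : IsScalarTower Γ(Z, V) Γ(W, π ⁻¹ᵁ V) Γ((Scheme.Modules.pullback π).obj N, π ⁻¹ᵁ V) :=
    .of_algebraMap_smul fun _ _ => rfl
  have hbc := H8Props.PullSections.isBaseChange_pullLin π N h hN hV hV'
  have hsurj : Function.Bijective (algebraMap Γ(Z, V) Γ(W, π ⁻¹ᵁ V)) := by
    show Function.Bijective (π.appLE V (π ⁻¹ᵁ V) h).hom
    rw [← Scheme.Hom.app_eq_appLE]
    exact ConcreteCategory.bijective_of_isIso (π.app V)
  let e := (TensorProduct.AlgebraTensorModule.congr
    (LinearEquiv.ofBijective (Algebra.linearMap Γ(Z, V) Γ(W, π ⁻¹ᵁ V)) hsurj).symm (LinearEquiv.refl _ _)).trans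
      (TensorProduct.lid Γ(Z, V) Γ(N, V))
  have key : ∀ m, H8Props.PullSections.pullLin π N h m = hbc.equiv (e.symm m) := fun m => by
    simp [e, IsBaseChange.equiv_tmul]
  have hb : Function.Bijective fun m => H8Props.PullSections.pullLin π N h m := by
    rw [funext key]
    exact hbc.equiv.bijective.comp e.symm.bijective
  have happ : ∀ m, H8Props.PullSections.pullLin π N h m = OmegaSh.pullSect π N V m :=
    H10Coh.SheafHom.pullLin_self π N V
  rw [funext happ] at hb
  exact hb

theorem isZero_restrict_kernel_cokernel {M B : X.Modules} (u : M ⟶ B) (V : X.Opens)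
    [IsIso ((Scheme.Modules.restrictFunctor V.ι).map u)] :
    IsZero ((Scheme.Modules.restrictFunctor V.ι).obj (kernel u)) ∧
      IsZero ((Scheme.Modules.restrictFunctor V.ι).obj (cokernel u)) := by
  let F := Scheme.Modules.restrictFunctor V.ι
  haveI : PreservesLimit (parallelPair u 0) F := inferInstance
  exact ⟨(isZero_kernel_of_mono (F.map u)).of_iso (PreservesKernel.iso F u),
    (isZero_cokernel_of_epi (F.map u)).of_iso (PreservesCokernel.iso F u)⟩

/-- The products of a coherent module with numerically trivial modules form a bounded set. -/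
theorem good_coh (M : X.Modules) (hM : Coh.IsCoh M) : Good k M := by
  classical
  haveI := H28Int.isNoetherian k (X := X)
  suffices H : ∀ (C : Closeds X) (M : X.Modules), Coh.IsCoh M → CohB1.support M ⊆ (C : Set X) → Good k M from
    H ⊤ M hM fun _ _ => trivial
  clear hM M
  intro C
  induction C using WellFoundedLT.induction with
  | _ C ih =>
    intro M hM hsupp
    by_cases hne : CohB1.support M = ∅
    · exact good_zero hM (isZero_of_support_empty hne)
    by_cases heq : CohB1.support M = (C : Set X)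
    swap
    · refine ih ⟨CohB1.support M, H10Coh.isClosed_support _ hM.2⟩ (lt_of_le_of_ne hsupp fun h => heq ?_) M hM
        Set.Subset.rfl
      exact congrArg SetLike.coe h
    let J := Fitt.sheafIdeal M 0
    let i := J.subschemeι
    have hJC : (J.support : Set X) = (C : Set X) := by rw [← LeadProper.support_eq_fitt M hM.1 hM.2, heq]
    haveI hη : IsIso ((Scheme.Modules.pullbackPushforwardAdjunction i).unit.app M) :=
      LeadProper.isIso_unit_of_killedByIdeal M hM.1 i
        (J.ker_subschemeι.symm ▸ LeadProper.killedByIdeal_fitt M hM.1 hM.2)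
    haveI : IsLocallyNoetherian J.subscheme := LocallyOfFiniteType.isLocallyNoetherian i
    let Nz := (Scheme.Modules.pullback i).obj M
    have hNz : Coh.IsCoh Nz := H17.ConsProp.isCoh_pullback i hM
    obtain ⟨W, π, A₀, U, hπ, hA₀, hUd, hUiso⟩ := exists_chow_ample k (i ≫ (X ↘ Spec (CommRingCat.of k)))
    haveI := hπ
    haveI := hUiso
    haveI : IsLocallyNoetherian W := LocallyOfFiniteType.isLocallyNoetherian π
    let g := π ≫ i
    let Mw := (Scheme.Modules.pullback π).obj Nz
    have hMw : Coh.IsCoh Mw := H17.ConsProp.isCoh_pullback π hNz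
    let B := (Scheme.Modules.pushforward g).obj Mw
    have hBc : Coh.IsCoh B := H24GE.isCoh_pushforward g hMw
    have hBg : Good k B := good_push g hA₀ hMw
    let u : M ⟶ B := (Scheme.Modules.pullbackPushforwardAdjunction i).unit.app M ≫
      (Scheme.Modules.pushforward i).map ((Scheme.Modules.pullbackPushforwardAdjunction π).unit.app Nz) ≫
      (Scheme.Modules.pushforwardComp π i).hom.app Mw
    let E : Closeds X := ⟨i '' (U : Set J.subscheme)ᶜ, i.isClosedEmbedding.isClosedMap _ U.isOpen.isClosed_compl⟩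
    have hEC : E < C := by
      refine lt_of_le_of_ne (fun x hx => ?_) fun h => ?_
      · obtain ⟨z, -, rfl⟩ := hx
        show J.subschemeι z ∈ (C : Set X)
        rw [← hJC, ← J.range_subschemeι]
        exact ⟨z, rfl⟩
      · obtain ⟨x, hx⟩ := Set.nonempty_iff_ne_empty.2 hne
        rw [heq, ← hJC, ← J.range_subschemeι] at hx
        obtain ⟨z, rfl⟩ := hx
        haveI : Nonempty J.subscheme := ⟨z⟩
        obtain ⟨z', hz'⟩ := hUd.nonempty
        have h1 : i z' ∈ (C : Set X) := by rw [← hJC, ← J.range_subschemeι]; exact ⟨z', rfl⟩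
        rw [← h] at h1
        obtain ⟨w, hw, hwz⟩ := h1
        exact hw (i.isClosedEmbedding.injective hwz ▸ hz')
    let V : X.Opens := ⟨(E : Set X)ᶜ, E.isClosed.isOpen_compl⟩
    have hpre : i ⁻¹ᵁ V ≤ U := fun z hz => by_contra fun h => hz ⟨z, h, rfl⟩
    let F := Scheme.Modules.restrictFunctor V.ι
    haveI : IsIso (F.map u) := by
      haveI := hM.1
      haveI := hBc.1
      refine LeadDev.isIso_of_bijective_affine _ (LeadDev.isQCoh_restrict V.ι M hM.1)
        (LeadDev.isQCoh_restrict V.ι B hBc.1) fun O hO => ?_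
      show Function.Bijective (u.app (V.ι ''ᵁ O))
      have hle : i ⁻¹ᵁ (V.ι ''ᵁ O) ≤ U := fun z hz => hpre (by
        obtain ⟨y, -, hy⟩ := (hz : i z ∈ V.ι '' (O : Set V.toScheme))
        show i z ∈ V
        rw [← hy]
        exact y.2)
      have h1 : Function.Bijective
          (((Scheme.Modules.pullbackPushforwardAdjunction i).unit.app M).app (V.ι ''ᵁ O)) :=
        ConcreteCategory.bijective_of_isIso _
      have h2 := bijective_unit_app π Nz hNz.1 U _ ((hO.image_of_isOpenImmersion V.ι).preimage i) hle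
      exact h2.comp h1
    obtain ⟨hk, hc⟩ := isZero_restrict_kernel_cokernel u V
    let I := Scheme.IdealSheafData.vanishingIdeal E
    have hI : (I.support : Set X) = (E : Set X) :=
      I.range_subschemeι.symm.trans (H17.range_vanishingIdeal_subschemeι E)
    obtain ⟨n, hn⟩ := H10Inj.IdealPow.exists_mono_comp I hM hBc u (fun x hx => by
      rw [hI]
      by_contra hcx
      exact LeadDev.notMem_support_of_isZero_restrict V.ι hk ⟨⟨x, hcx⟩, rfl⟩ hx)
    let m := Dual3.idealMulι (I ^ n) M
    have hm := LeadDev.isCoh_idealMul (I ^ n) M hM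
    let Q := cokernel m
    have hQc : Coh.IsCoh Q := H10Coh.isCoh_cokernel m hm.1 hM
    have hQs : CohB1.support Q ⊆ (E : Set X) := fun x hx => by
      by_contra hxE
      obtain ⟨O, hO, hxO, -⟩ := exists_isAffineOpen_mem_and_subset (U := (⊤ : X.Opens)) (x := x) trivial
      refine LeadDev.notMem_support_cokernel m hm.1 hM.1 hO hxO
        (LeadDev.surjAt_idealMulι (I ^ n) M hM ?_ ⟨O, hO⟩ hxO) hx
      rcases Nat.eq_zero_or_pos n with rfl | hn0
      · simp [Scheme.IdealSheafData.support_top]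
      · rw [Scheme.IdealSheafData.support_pow _ _ hn0.ne', hI]
        exact hxE
    let w : M ⟶ B ⊞ Q := biprod.lift u (cokernel.π m)
    haveI hwm : Mono w := by
      refine Preadditive.mono_of_cancel_zero _ fun {T} a ha => ?_
      have h1 : a ≫ u = 0 := by simpa [w] using ha =≫ biprod.fst
      have h2 : a ≫ cokernel.π m = 0 := by simpa [w] using ha =≫ biprod.snd
      haveI : Mono m := inferInstanceAs (Mono (kernel.ι _))
      have h3 : Abelian.monoLift m a h2 = 0 := by
        haveI := hn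
        rw [← cancel_mono (m ≫ u), zero_comp, ← Category.assoc, Abelian.monoLift_comp, h1]
      rw [← Abelian.monoLift_comp m a h2, h3, zero_comp]
    have hwc : Coh.IsCoh (cokernel w) := H10Coh.isCoh_cokernel w hM.1 (LeadDev.isCoh_biprod hBc hQc)
    have hQV : IsZero (F.obj Q) := by
      refine isZero_of_support_empty (Set.eq_empty_of_forall_notMem fun y hy => ?_)
      exact y.2 (hQs ((H16Derived.MVPush.mem_support_restrict V Q y).1 hy))
    haveI : IsIso (F.map w) := by
      haveI : PreservesBinaryBiproducts F := preservesBinaryBiproducts_of_preservesBiproducts _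
      have hfst : IsIso (biprod.fst : F.obj B ⊞ F.obj Q ⟶ F.obj B) :=
        ⟨biprod.inl, biprod.hom_ext _ _ (by simp) (hQV.eq_of_tgt _ _), by simp⟩
      have h1 : F.map w ≫ (F.mapBiprod B Q).hom ≫ biprod.fst = F.map u := by
        rw [Functor.mapBiprod_hom, biprod.lift_fst, ← F.map_comp, biprod.lift_fst]
      exact IsIso.of_isIso_fac_right (h := F.map u) h1
    have hws : CohB1.support (cokernel w) ⊆ (E : Set X) := fun x hx => by
      by_contra hcx
      exact LeadDev.notMem_support_of_isZero_restrict V.ι (isZero_restrict_kernel_cokernel w V).2 ⟨⟨x, hcx⟩, rfl⟩ hx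
    refine good_of_kernel hBg (ih E hEC Q hQc hQs) (ih E hEC _ hwc hws) (cokernel.π w) ?_
    exact (asIso (Abelian.factorThruImage w)).symm

variable (k X) in
/-- The numerically trivial invertible modules on a proper scheme over an algebraically closed field are bounded. -/
theorem isBounded_nt_proper : Pic13.IsBounded k X (NT k) := by
  haveI := H28Int.isNoetherian k (X := X)
  have hO : Coh.IsCoh (Coh.structureModule X) := H11Ample.isCoh_of_isInvertible H11Ample.isInvertible_structureModule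
  exact ((good_coh (k := k) _ hO).mono fun L hL => ⟨L, ⟨L, hL, ⟨H10Coh.Tw.commIso L _ ≪≫ H10Coh.Tw.leftUnitIso L⟩⟩,
    ⟨Iso.refl L⟩⟩).isBounded

end Groth.Agent.H12Pic.Bdd
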