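import Groth.Agent.H12Pic.Bdd.Proper
import Groth.Agent.S4278
import Groth.Agent.S16712

/-!
# Consequences of the boundedness of numerically trivial modules
-/

set_option autoImplicit false
set_option linter.style.haveILetI false
set_option linter.unusedSectionVars false
universe u

open CategoryTheory CategoryTheory.Limits AlgebraicGeometry
open Groth.Agent.H25Theta (pb pT pC pI tI)

noncomputable section

namespace Groth.Agent.H12Pic.Bdd

open Groth.Agent.H12Pic.NumTriv Groth.Agent.H22Alg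

variable (k : Type u) [Field k] [IsAlgClosed k] {X : Scheme.{u}} [X.Over (Spec (CommRingCat.of k))]
  [IsProper (X ↘ Spec (CommRingCat.of k))]

theorem isTauEquivZero_of_nt {L : X.Modules} (h : NT k L) : Pic13.IsTauEquivZero k X L :=
  Family.isTauEquivZero_of_bounded k (isBounded_nt_proper k X) h.inv fun n => h.pow k n

theorem nt_of_tau {L : X.Modules} (hL : PicF.IsInvertible L) (h : Pic13.IsTauEquivZero k X L) : NT k L :=
  ⟨hL, S4278.result k X L hL h⟩

theorem isAlgEquivZero_congr {L M : X.Modules} (h : Pic13.IsAlgEquivZero k X L) (e : L ≅ M) :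
    Pic13.IsAlgEquivZero k X M := by
  obtain ⟨T, q, h1, h2, h3, G, hG, t, t₀, ht, ht₀, ⟨a⟩, hb⟩ := h
  exact ⟨T, q, h1, h2, h3, G, hG, t, t₀, ht, ht₀, ⟨a ≪≫ e⟩, hb⟩

theorem nt_of_algEquiv {L : X.Modules} (hL : PicF.IsInvertible L) (h : Pic13.IsAlgEquivZero k X L) : NT k L :=
  nt_of_tau k hL ⟨1, one_pos, isAlgEquivZero_congr k h (H10Coh.Tw.leftUnitIso L).symm⟩

/-- A module with a numerically trivial power is numerically trivial. -/
theorem nt_of_pow {L : X.Modules} (hL : PicF.IsInvertible L) {n : ℕ} (hn : 0 < n)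
    (h : NT k (CohB1.tensorPow L n)) : NT k L := by
  refine ⟨hL, (num_iff_Q k hL).2 fun Z i _ _ hd => ?_⟩
  haveI := H28Int.isNoetherian k (X := X)
  have h1 := h.Q_eq k i hd
  rw [NefQ.Q_cons_pow k (l := []) (by simp) hL (LeadDev.isCoh_push_structure i.ker.subschemeι)
    (NefBC.support_quotMod_ker_le k i hd) n] at h1
  exact (mul_eq_zero.1 h1).resolve_left (by exact_mod_cast hn.ne')

/-- Numerical triviality descends along surjections. -/
theorem nt_of_pullback {X' : Scheme.{u}} [X'.Over (Spec (CommRingCat.of k))]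
    [IsProper (X' ↘ Spec (CommRingCat.of k))] (f : X' ⟶ X)
    (hf : f ≫ (X ↘ Spec (CommRingCat.of k)) = X' ↘ Spec (CommRingCat.of k)) [Surjective f] {L : X.Modules}
    (hL : PicF.IsInvertible L) (h : NT k ((Scheme.Modules.pullback f).obj L)) : NT k L := by
  obtain ⟨L', hL', ⟨e₀⟩⟩ := H11Sym.exists_inverse hL
  let e : CohB1.tensorMod L L' ≅ Coh.structureModule X := H10Coh.Tw.commIso L L' ≪≫ e₀
  have hn : ∀ M : X.Modules, PicF.IsInvertible M → Kleiman.Nef k ((Scheme.Modules.pullback f).obj M) →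
      Kleiman.Nef k M := fun M hM h' =>
    (Kleiman.nef_iff k M).2 ((S16712.result k X X' f hf M hM).2 ((Kleiman.nef_iff k _).1 h'))
  have h' : NT k ((Scheme.Modules.pullback f).obj L') :=
    h.inverse k ((pT f L L').symm ≪≫ (Scheme.Modules.pullback f).mapIso e ≪≫
      H16Derived.KFlat.Stalk.structurePullbackIso f)
  exact nt_of_nef k hL e (hn L hL (h.nef k)) (hn L' hL' (h'.nef k))

/-- Two fibres of a connected family of invertible modules differ by a module algebraically equivalent to zero. -/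
theorem isAlgEquivZero_of_family {A B A' : X.Modules} (hA' : PicF.IsInvertible A')
    (e : CohB1.tensorMod A A' ≅ Coh.structureModule X) {T : Scheme.{u}} (q : T ⟶ Spec (CommRingCat.of k))
    [ConnectedSpace T] [LocallyOfFiniteType q] [QuasiCompact q] {M : (Pic13.prodK k X q).Modules}
    (hM : PicF.IsInvertible M) (t t₀ : Spec (CommRingCat.of k) ⟶ T) (ht : t ≫ q = 𝟙 _) (ht₀ : t₀ ≫ q = 𝟙 _)
    (eB : Pic13.fibreMod k X q t ht M ≅ B) (eA : Pic13.fibreMod k X q t₀ ht₀ M ≅ A) :
    Pic13.IsAlgEquivZero k X (CohB1.tensorMod B A') := by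
  let p := pullback.fst (X ↘ Spec (CommRingCat.of k)) q
  let f := fun (s : Spec (CommRingCat.of k) ⟶ T) (hs : s ≫ q = 𝟙 _) =>
    pT (Pic13.sliceAt k X q s hs) M (pb p A') ≪≫ tI (Iso.refl _)
      (pC (Pic13.sliceAt k X q s hs) p (h := 𝟙 X) (pullback.lift_fst _ _ _) A' ≪≫ pI (𝟙 X) rfl A')
  exact ⟨T, q, inferInstance, inferInstance, inferInstance, CohB1.tensorMod M (pb p A'),
    H11Ample.isInvertible_tensor hM (H11Ample.isInvertible_pullback p hA'), t, t₀, ht, ht₀,
    ⟨f t ht ≪≫ tI eB (Iso.refl A')⟩, ⟨f t₀ ht₀ ≪≫ tI eA (Iso.refl A') ≪≫ e⟩⟩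

/-- A relation realised in every sequence is realised from finitely many members. -/
theorem exists_finite_reps {α : Type*} (Q : α → Prop) (R : α → α → Prop)
    (h : ∀ s : ℕ → α, (∀ n, Q (s n)) → ∃ a b, a < b ∧ R (s a) (s b)) :
    ∃ (q : ℕ) (M : Fin q → α), (∀ j, Q (M j)) ∧ ∀ x, Q x → ∃ j, R (M j) x := by
  classical
  by_contra hc
  push Not at hc
  have hstep : ∀ (n : ℕ) (prev : Fin n → {x // Q x}), ∃ x : {x // Q x}, ∀ j, ¬ R (prev j).1 x.1 := fun n prev => by
    obtain ⟨x, hx, hR⟩ := hc n (fun j => (prev j).1) fun j => (prev j).2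
    exact ⟨⟨x, hx⟩, hR⟩
  choose next hnext using hstep
  let s : ℕ → {x // Q x} := Nat.strongRec fun n ih => next n fun j => ih j.1 j.2
  have hs : ∀ n, s n = next n fun j => s j.1 := fun n => by
    show s n = _
    simp only [s]
    exact Nat.strongRec_eq _ n
  obtain ⟨a, b, hab, hR⟩ := h (fun n => (s n).1) fun n => (s n).2
  rw [hs b] at hR
  exact hnext b (fun j => s j.1) ⟨a, hab⟩ hR

/-- Finitely many members of a bounded set of invertible modules represent it modulo algebraic equivalence. -/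
theorem exists_reps_bounded {α : Type*} (Q : α → Prop) (F : α → X.Modules) {P : X.Modules → Prop}
    (hP : Pic13.IsBounded k X P) (hF : ∀ x, Q x → P (F x) ∧ PicF.IsInvertible (F x)) :
    ∃ (q : ℕ) (M : Fin q → α), (∀ j, Q (M j)) ∧ ∀ x, Q x → ∃ j, ∀ A' : X.Modules, PicF.IsInvertible A' →
      Nonempty (CohB1.tensorMod (F (M j)) A' ≅ Coh.structureModule X) →
        Pic13.IsAlgEquivZero k X (CohB1.tensorMod (F x) A') := by
  refine exists_finite_reps Q (fun a b => ∀ A' : X.Modules, PicF.IsInvertible A' →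
    Nonempty (CohB1.tensorMod (F a) A' ≅ Coh.structureModule X) →
      Pic13.IsAlgEquivZero k X (CohB1.tensorMod (F b) A')) fun s hs => ?_
  obtain ⟨a, b, hab, T, q, hc, hft, hqc, M, hM, t, t₀, ht, ht₀, ⟨e⟩, ⟨e₀⟩⟩ :=
    Family.exists_irreducible_family k hP (fun n => F (s n)) (fun n => (hF _ (hs n)).1) fun n => (hF _ (hs n)).2
  haveI := hc; haveI := hft; haveI := hqc
  exact ⟨a, b, hab, fun A' hA' ⟨eA⟩ => isAlgEquivZero_of_family k hA' eA q hM t t₀ ht ht₀ e e₀⟩

theorem exists_right_inverse {A : X.Modules} (hA : PicF.IsInvertible A) :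
    ∃ A', PicF.IsInvertible A' ∧ Nonempty (CohB1.tensorMod A A' ≅ Coh.structureModule X) := by
  obtain ⟨A', hA', ⟨e₀⟩⟩ := H11Sym.exists_inverse hA
  exact ⟨A', hA', ⟨H10Coh.Tw.commIso A A' ≪≫ e₀⟩⟩

/-- Cancelling an inverse. -/
def cancelInv {A A' : X.Modules} (e : CohB1.tensorMod A A' ≅ Coh.structureModule X) (B : X.Modules) :
    B ≅ CohB1.tensorMod A (CohB1.tensorMod B A') :=
  (H10Coh.Tw.rightUnitIso B).symm ≪≫ tI (Iso.refl B) e.symm ≪≫ (H10Coh.Tw.assoc B A A').symm ≪≫
    tI (H10Coh.Tw.commIso B A) (Iso.refl A') ≪≫ H10Coh.Tw.assoc A B A'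

end Groth.Agent.H12Pic.Bdd
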